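import Mathlib
import Cfsg.Prelude.Def_OddOrderLocal
import Cfsg.Agent.Lib.Helper29.BG.S1416A
import Cfsg.Agent.Lib.Helper78.BG.S1405Core
import Cfsg.Agent.Lib.Helper65.BG.S1406Core
import Cfsg.Agent.Lib.Helper66.BG.S1350Core
import Cfsg.Agent.Lib.Helper48.Generation
import Cfsg.Agent.Lib.Helper49.BG.S1401Core
import Cfsg.Agent.Lib.Helper75.BGUtil
import Cfsg.Agent.Lib.Helper67.BG.Basics
import Cfsg.Agent.Lib.Helper31.BG.SigmaHall
import Cfsg.Agent.Lib.Helper47.Subn
import Cfsg.Agent.Lib.Helper47.Minimal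
import Cfsg.Agent.Lib.Helper47.BG.SigmaNe
import Cfsg.Agent.Lib.Helper64.BG.Fusion

/-!
Bender–Glauberman Proposition 12.4 (statement S1416), part B: the two facts of Section 11 that
are used (as `Prop`s), Lemma 12.3 (`[D, A] ≤ H_σ`, `M_α ∩ H_σ = 1`), and `M_α = 1`.
-/

set_option autoImplicit false

namespace Cfsg.Agent.Lib.Helper29.BG

open Cfsg Cfsg.Agent.Lib.Helper35.BG Cfsg.Agent.Lib.Helper46

/-- BG 11.4 for every exceptional configuration `(H, p, A, X)` of `G`: `H` maximal, `p ∉ σ(H)`,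
`A ≤ H` elementary abelian of order `p²`, `X ≤ A` of order `p` with `N_G(X) ≤ H`.  Then a maximal
subgroup `L ⊇ A` with `H_σ ∩ L_σ ≠ 1` is `H`. -/
def HExcUniq (G : Type*) [Group G] : Prop :=
  ∀ (H : Subgroup G), IsCoatom H → ∀ (p : ℕ) [Fact p.Prime] (A X : Subgroup G),
    p ∉ Cfsg.sigma H → A ≤ H → Cfsg.IsElementaryAbelian p A → Nat.card A = p ^ 2 →
    X ≤ A → Nat.card X = p → Subgroup.normalizer (X : Set G) ≤ H →
    ∀ L : Subgroup G, IsCoatom L → A ≤ L → Cfsg.sigmaCore H ⊓ Cfsg.sigmaCore L ≠ ⊥ → L = H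

/-- BG 11.7 for every exceptional configuration `(H, p, A, X)` of `G`: `H_σ A ⊴ H`. -/
def HExcNormal (G : Type*) [Group G] : Prop :=
  ∀ (H : Subgroup G), IsCoatom H → ∀ (p : ℕ) [Fact p.Prime] (A X : Subgroup G),
    p ∉ Cfsg.sigma H → A ≤ H → Cfsg.IsElementaryAbelian p A → Nat.card A = p ^ 2 →
    X ≤ A → Nat.card X = p → Subgroup.normalizer (X : Set G) ≤ H →
    H ≤ Subgroup.normalizer ((Cfsg.sigmaCore H ⊔ A : Subgroup G) : Set G)

variable {G : Type*} [Group G] [Finite G]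

theorem h1405_of (hG : IsMinSimpleOddOrder G) (h1403 : H1403 G) (h1404 : H1404 G) :
    Cfsg.Agent.Lib.Helper47.BG.Hyp1405 G :=
  fun M hM => Cfsg.Agent.Lib.Helper78.BG.s1405_core hG h1403 h1404 M hM

theorem alphaCore_isPi' (M : Subgroup G) :
    ∀ q : ℕ, q.Prime → q ∣ Nat.card (Cfsg.alphaCore M) → q ∈ Cfsg.alpha M :=
  Cfsg.Agent.Lib.Helper23.piCoreOf_isPi (alpha M) M

theorem alphaCore_normalizer' (M : Subgroup G) :
    M ≤ Subgroup.normalizer ((Cfsg.alphaCore M : Subgroup G) : Set G) :=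
  Cfsg.Agent.Lib.Helper23.piCoreOf_normalizer (alpha M) M

theorem alphaCore_le' (M : Subgroup G) : Cfsg.alphaCore M ≤ M :=
  Subgroup.map_subtype_le _

theorem exists_prime_dvd_card_of_ne_bot {T : Subgroup G} (hT : T ≠ ⊥) :
    ∃ q : ℕ, q.Prime ∧ q ∣ Nat.card T := by
  apply Nat.exists_prime_and_dvd
  intro h
  exact hT (Subgroup.eq_bot_of_card_eq T h)

/-- A `q`-subgroup of `M` lies in `M_σ` when `q ∈ σ(M)`. -/
theorem le_sigmaCore_of_pGroup (hG : IsMinSimpleOddOrder G) (h1403 : H1403 G) (h1404 : H1404 G)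
    {M : Subgroup G} (hM : IsCoatom M) {q : ℕ} [Fact q.Prime] (hq : q ∈ sigma M)
    {Q : Subgroup G} (hQ : IsPGroup q Q) (hQM : Q ≤ M) : Q ≤ sigmaCore M := by
  have h1405 := h1405_of hG h1403 h1404
  have hQ' : IsPGroup q (Q.subgroupOf M) := hQ.comap_of_injective M.subtype M.subtype_injective
  obtain ⟨P, hP⟩ := hQ'.exists_le_sylow
  intro x hx
  have h1 : (⟨x, hQM hx⟩ : M) ∈ (P : Subgroup M) := hP (Subgroup.mem_subgroupOf.mpr hx)
  have h2 := Cfsg.Agent.Lib.Helper66.BG.sylow_le_piCore_sigma hG h1404 h1405 M hM q hq P h1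
  exact ⟨⟨x, hQM hx⟩, h2, rfl⟩

theorem sylIn_ne_bot {q : ℕ} [hq : Fact q.Prime] {Q M : Subgroup G} (hQ : IsSylowIn q Q M)
    (hdvd : q ∣ Nat.card M) : Q ≠ ⊥ := by
  intro h
  have h1 := hQ.2
  rw [h, Subgroup.card_bot] at h1
  have h2 : (Nat.card M).factorization q = 0 := by
    by_contra h0
    have : 1 < q ^ (Nat.card M).factorization q := Nat.one_lt_pow h0 hq.out.one_lt
    omega
  rcases (Nat.factorization_eq_zero_iff _ _).mp h2 with h3 | h3 | h3
  · exact h3 hq.out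
  · exact h3 hdvd
  · exact Nat.card_pos.ne' h3

/-- A Sylow subgroup of a nilpotent subgroup `D` is normalized by everything normalizing `D`. -/
theorem le_normalizer_sylIn_of_nilpotent {p : ℕ} [Fact p.Prime] {M D S : Subgroup G}
    (hMD : M ≤ Subgroup.normalizer (D : Set G)) (hD : Group.IsNilpotent D)
    (hS : IsSylowIn p S D) : M ≤ Subgroup.normalizer (S : Set G) := by
  obtain ⟨T, hT⟩ := hS.exists_sylow
  have hTn : (T : Subgroup D).Normal :=
    Sylow.normal_of_normalizerCondition Group.normalizerCondition_of_isNilpotent T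
  intro m hm
  have hmap : D.map (MulAut.conj m).toMonoidHom = D := map_conj_eq_of_mem_normalizer (hMD hm)
  have hSm : IsSylowIn p (S.map (MulAut.conj m).toMonoidHom) D := by
    refine ⟨?_, ?_⟩
    · calc S.map (MulAut.conj m).toMonoidHom ≤ D.map (MulAut.conj m).toMonoidHom :=
          Subgroup.map_mono hS.1
        _ = D := hmap
    · rw [card_map_conj]; exact hS.2
  obtain ⟨T', hT'⟩ := hSm.exists_sylow
  haveI := Sylow.unique_of_normal T hTn
  have hTT' : T' = T := Subsingleton.elim _ _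
  have h3 : S.map (MulAut.conj m).toMonoidHom = S := by
    rw [← hT', hTT', hT]
  exact mem_normalizer_of_map_conj_eq h3

/-- If `X` is not good for `M`, some other maximal subgroup contains `N_G(X)`. -/
theorem exists_other_of_not_good (hG : IsMinSimpleOddOrder G) {M X : Subgroup G}
    (hM : IsCoatom M) (hXM : X ≤ M) {p : ℕ} [Fact p.Prime] (hX : Nat.card X = p)
    (h : ¬ Good M X) :
    ∃ H : Subgroup G, IsCoatom H ∧ Subgroup.normalizer (X : Set G) ≤ H ∧ H ≠ M := by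
  by_contra hcon
  push Not at hcon
  apply h
  have hne : Subgroup.normalizer (X : Set G) ≠ ⊤ :=
    normalizer_ne_top hG (ne_bot_of_card_prime hX) (ne_top_of_le_coatom hM hXM)
  obtain ⟨L, hL, hNL⟩ := exists_coatom_ge hne
  exact ⟨(hcon L hL hNL) ▸ hNL, hcon⟩

/-- BG Lemma 12.3, first step: `[D, A] ≤ H_σ` for an `A`-invariant `p'`-subgroup `D` of `H`. -/
theorem comm_mem_sigmaCore (hG : IsMinSimpleOddOrder G) (h1403 : H1403 G) (h1404 : H1404 G)
    (hN : HExcNormal G) {H : Subgroup G} (hH : IsCoatom H) {p : ℕ} [hp : Fact p.Prime]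
    {A X D : Subgroup G} (hAH : A ≤ H) (hA : Cfsg.IsElementaryAbelian p A)
    (hA2 : Nat.card A = p ^ 2) (hXA : X ≤ A) (hX : Nat.card X = p)
    (hNX : Subgroup.normalizer (X : Set G) ≤ H) (hDH : D ≤ H)
    (hAD : A ≤ Subgroup.normalizer (D : Set G)) (hpD : ¬ p ∣ Nat.card D) :
    ∀ d ∈ D, ∀ a ∈ A, d * a * d⁻¹ * a⁻¹ ∈ sigmaCore H := by
  intro d hd a ha
  have hnorm := Cfsg.Agent.Lib.Helper67.BG.sigmaCore_normalizer H
  have hAp : IsPGroup p A := Cfsg.Agent.Lib.Helper20.BG.isPGroup_of_ea hA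
  by_cases hps : p ∈ sigma H
  · have hAs : A ≤ sigmaCore H := le_sigmaCore_of_pGroup hG h1403 h1404 hH hps hAp hAH
    have h1 : d * a * d⁻¹ ∈ sigmaCore H :=
      (Subgroup.mem_normalizer_iff.mp (hnorm (hDH hd)) a).mp (hAs ha)
    exact (sigmaCore H).mul_mem h1 ((sigmaCore H).inv_mem (hAs ha))
  · have hK := hN H hH p A X hps hAH hA hA2 hXA hX hNX
    have haK : a ∈ sigmaCore H ⊔ A := (le_sup_right : A ≤ sigmaCore H ⊔ A) ha
    have h1 : d * a * d⁻¹ ∈ sigmaCore H ⊔ A :=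
      (Subgroup.mem_normalizer_iff.mp (hK (hDH hd)) a).mp haK
    have h2 : d * a * d⁻¹ * a⁻¹ ∈ A ⊔ sigmaCore H := by
      rw [sup_comm]
      exact (sigmaCore H ⊔ A).mul_mem h1 ((sigmaCore H ⊔ A).inv_mem haK)
    have h3 : d * a * d⁻¹ * a⁻¹ ∈ D := by
      have h4 : a * d⁻¹ * a⁻¹ ∈ D :=
        (Subgroup.mem_normalizer_iff.mp (hAD ha) d⁻¹).mp (D.inv_mem hd)
      have e : d * a * d⁻¹ * a⁻¹ = d * (a * d⁻¹ * a⁻¹) := by group
      rw [e]; exact D.mul_mem hd h4
    have h4 : (orderOf (d * a * d⁻¹ * a⁻¹)).Coprime p := by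
      have hdvd : orderOf (d * a * d⁻¹ * a⁻¹) ∣ Nat.card D := by
        have h5 := orderOf_dvd_natCard (⟨_, h3⟩ : D)
        rwa [Subgroup.orderOf_mk] at h5
      exact Nat.Coprime.coprime_dvd_left hdvd
        (Nat.Coprime.symm ((Nat.Prime.coprime_iff_not_dvd hp.out).mpr hpD))
    exact Cfsg.Agent.Lib.Helper47.mem_of_mem_sup_of_coprime_of_le_normalizer
      (hAH.trans hnorm) hAp h2 h4

/-- Sylow subgroups of two maximal subgroups for a common prime of `σ` are conjugate. -/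
theorem exists_conj_sylIn {M H : Subgroup G} {q : ℕ} [Fact q.Prime] (hqM : q ∈ sigma M)
    (hqH : q ∈ sigma H) {Q : Subgroup G} (hQ : IsSylowIn q Q M) :
    ∃ g : G, IsSylowIn q (Q.map (MulAut.conj g).toMonoidHom) H := by
  have hQt := isSylowIn_top_of_sigma hqM hQ
  have hqH' := hqH
  obtain ⟨-, -, P₀, -⟩ := hqH'
  have hP := isSylowIn_of_sylow P₀
  have hPt := isSylowIn_top_of_sigma hqH hP
  obtain ⟨g, -, hg⟩ := hQt.exists_conj hPt
  exact ⟨g, hg ▸ hP⟩

/-- If `H = M^g` with `p ∈ σ(H)` and `X ≤ M ∩ H` of order `p` with `N(X) ≤ H`, then `M = H`. -/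
theorem eq_of_map_conj_eq (h1404 : H1404 G) {M H : Subgroup G} (hH : IsCoatom H) {p : ℕ}
    [Fact p.Prime] (hpH : p ∈ sigma H) {X : Subgroup G} (hX : Nat.card X = p) (hXM : X ≤ M)
    (hXH : X ≤ H) (hNX : Subgroup.normalizer (X : Set G) ≤ H) {g : G}
    (hg : M.map (MulAut.conj g).toMonoidHom = H) : M = H := by
  have hXp : IsPGroup p X := IsPGroup.of_card (n := 1) (by rw [hX, pow_one])
  obtain ⟨hfus, -⟩ := h1404 H hH p hpH X hXp (ne_bot_of_card_prime hX) hXH
  obtain ⟨m, hm, c, hc, rfl⟩ := hfus g (hg ▸ Subgroup.map_mono hXM)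
  have hcH : c ∈ H := hNX (centralizer_le_normalizer' X hc)
  have hgH : m * c ∈ H := H.mul_mem hm hcH
  have h2 : (M.map (MulAut.conj (m * c)).toMonoidHom).map (MulAut.conj (m * c)⁻¹).toMonoidHom
      = M := by
    rw [map_conj_mul, inv_mul_cancel, map_conj_one]
  rw [← h2, hg]
  exact map_conj_eq_of_mem (H.inv_mem hgH)

/-- BG Lemma 12.3 / 10.12: `M_α ∩ H_σ = 1`, and `M_σ ∩ H_σ = 1` when `M_σ` is nilpotent. -/
theorem sigma_inf_eq_bot (hG : IsMinSimpleOddOrder G) (h1403 : H1403 G) (h1404 : H1404 G)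
    (hU : HExcUniq G) {M H : Subgroup G} (hM : IsCoatom M) (hH : IsCoatom H) (hne : H ≠ M)
    {p : ℕ} [hp : Fact p.Prime] {A X : Subgroup G} (hAM : A ≤ M) (hAH : A ≤ H)
    (hA : Cfsg.IsElementaryAbelian p A) (hA2 : Nat.card A = p ^ 2) (hXA : X ≤ A)
    (hX : Nat.card X = p) (hNX : Subgroup.normalizer (X : Set G) ≤ H) :
    alphaCore M ⊓ sigmaCore H = ⊥ ∧
      (Group.IsNilpotent (sigmaCore M) → sigmaCore M ⊓ sigmaCore H = ⊥) := by
  have h1405 := h1405_of hG h1403 h1404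
  have hασ : alphaCore M ≤ sigmaCore M := (h1405 M hM).2.2.1
  by_cases hps : p ∈ sigma H
  · have key : ∀ (q : ℕ) [Fact q.Prime], q ∈ sigma M → q ∈ sigma H → ∀ Q : Subgroup G,
        IsSylowIn q Q M →
        (∀ g : G, IsSylowIn q (Q.map (MulAut.conj g).toMonoidHom) H →
          M.map (MulAut.conj g).toMonoidHom = H) → False := by
      intro q _ hqM hqH Q hQ hconj
      obtain ⟨g, hg⟩ := exists_conj_sylIn hqM hqH hQ
      exact hne (eq_of_map_conj_eq h1404 hH hps hX (hXA.trans hAM) (hXA.trans hAH) hNX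
        (hconj g hg)).symm
    constructor
    · by_contra hT
      obtain ⟨q, hq, hqT⟩ := exists_prime_dvd_card_of_ne_bot hT
      haveI : Fact q.Prime := ⟨hq⟩
      have hqα : q ∈ alpha M :=
        alphaCore_isPi' M q hq (hqT.trans (Subgroup.card_dvd_of_le inf_le_left))
      have hqM : q ∈ sigma M := Cfsg.Agent.Lib.Helper78.BG.alpha_subset_sigma hG h1403 M hM hqα
      have hqH : q ∈ sigma H := Cfsg.Agent.Lib.Helper67.BG.sigmaCore_isPi H q hq
        (hqT.trans (Subgroup.card_dvd_of_le inf_le_right))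
      obtain ⟨Q, hQ, -⟩ := exists_isSylowIn_ge (p := q) (Q := ⊥) (H := M) IsPGroup.of_bot bot_le
      have hQ2 : ¬ Cfsg.PRankLE q 2 Q := fun h => hqα.2 (pRankLE_of_isSylowIn hQ h)
      have hQU : Cfsg.InUniqueMaximal Q := by
        apply h1403 Q (ne_top_of_le_coatom hM hQ.1)
        · exact not_rankLE_of_not_pRankLE (fun h => hQ2 (pRankLE_mono hq.pos (by norm_num) h))
        · exact Or.inl (not_rankLE_of_not_pRankLE hQ2)
      apply key q hqM hqH Q hQ
      intro g hg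
      have h1 : Q ≤ H.map (MulAut.conj g⁻¹).toMonoidHom := by
        have h0 := Subgroup.map_mono (f := (MulAut.conj g⁻¹).toMonoidHom) hg.1
        rwa [map_conj_mul, inv_mul_cancel, map_conj_one] at h0
      have h2 := unique_coatom_of_le hM hQ.1 hQU
        (Cfsg.Agent.Lib.Helper47.isCoatom_map_conj hH g⁻¹) h1
      rw [← h2, map_conj_mul, mul_inv_cancel, map_conj_one]
    · intro hnil
      by_contra hT
      obtain ⟨q, hq, hqT⟩ := exists_prime_dvd_card_of_ne_bot hT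
      haveI : Fact q.Prime := ⟨hq⟩
      have hqM : q ∈ sigma M := Cfsg.Agent.Lib.Helper67.BG.sigmaCore_isPi M q hq
        (hqT.trans (Subgroup.card_dvd_of_le inf_le_left))
      have hqH : q ∈ sigma H := Cfsg.Agent.Lib.Helper67.BG.sigmaCore_isPi H q hq
        (hqT.trans (Subgroup.card_dvd_of_le inf_le_right))
      obtain ⟨Q, hQ, -⟩ := exists_isSylowIn_ge (p := q) (Q := ⊥) (H := M) IsPGroup.of_bot bot_le
      have hQs : Q ≤ sigmaCore M :=
        le_sigmaCore_of_pGroup hG h1403 h1404 hM hqM (sylIn_isPGroup hQ) hQ.1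
      have hQn : M ≤ Subgroup.normalizer (Q : Set G) :=
        le_normalizer_sylIn_of_nilpotent (Cfsg.Agent.Lib.Helper67.BG.sigmaCore_normalizer M) hnil
          (sylIn_mono hQ hQs (Cfsg.Agent.Lib.Helper67.BG.sigmaCore_le M))
      have hQ1 : Q ≠ ⊥ := sylIn_ne_bot hQ hqM.2.1
      have hNQ : Subgroup.normalizer (Q : Set G) = M :=
        Cfsg.Agent.Lib.Helper47.BG.normalizer_eq_of_coatom hG hM hQ.1 hQ1 hQn
      apply key q hqM hqH Q hQ
      intro g hg
      have h1 : Subgroup.normalizer ((Q.map (MulAut.conj g).toMonoidHom : Subgroup G) : Set G)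
          ≤ H := normalizer_le_of_sigma hqH hg
      rw [normalizer_map_conj, hNQ] at h1
      by_contra hne'
      exact hH.1 ((Cfsg.Agent.Lib.Helper47.isCoatom_map_conj hM g).2 H (lt_of_le_of_ne h1 hne'))
  · have hb : sigmaCore H ⊓ sigmaCore M = ⊥ := by
      by_contra hT
      exact hne (hU H hH p A X hps hAH hA hA2 hXA hX hNX M hM hAM hT).symm
    constructor
    · rw [eq_bot_iff]
      calc alphaCore M ⊓ sigmaCore H ≤ sigmaCore M ⊓ sigmaCore H := inf_le_inf_right _ hασ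
        _ = ⊥ := by rw [inf_comm]; exact hb
    · intro _
      rw [inf_comm]; exact hb

/-- The generation step: under `(*)`, a normal `p'`-subgroup `R` of `M` meeting trivially the
`σ`-cores of the other maximal subgroups over the `N(X)` is centralized by `A`. -/
theorem le_centralizer_of_star (hG : IsMinSimpleOddOrder G) (h1403 : H1403 G) (h1404 : H1404 G)
    (hN : HExcNormal G) {M : Subgroup G} (hM : IsCoatom M) {p : ℕ} [hp : Fact p.Prime]
    {A : Subgroup G} (hAM : A ≤ M) (hA : Cfsg.IsElementaryAbelian p A)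
    (hA2 : Nat.card A = p ^ 2)
    (hstar : ∀ X : Subgroup G, X ≤ A → Nat.card X = p → ¬ Good M X) (R : Subgroup G)
    (hRM : M ≤ Subgroup.normalizer (R : Set G)) (hpR : ¬ p ∣ Nat.card R)
    (hR : ∀ H : Subgroup G, IsCoatom H → H ≠ M → A ≤ H →
      (∃ X : Subgroup G, X ≤ A ∧ Nat.card X = p ∧ Subgroup.normalizer (X : Set G) ≤ H) →
      R ⊓ sigmaCore H = ⊥) :
    R ≤ Subgroup.centralizer (A : Set G) := by
  have hpp : p.Prime := hp.out
  have hcomm : ∀ x ∈ A, ∀ y ∈ A, x * y = y * x :=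
    fun x hx y hy => Cfsg.Agent.Lib.Helper20.BG.ea_comm hA x hx y hy
  have hnc : ¬ IsCyclic A := by
    apply Cfsg.Agent.Lib.Helper49.BG.not_isCyclic_of_isElementaryAbelian hA
    rw [hA2]
    nlinarith [hpp.one_lt]
  apply Cfsg.Agent.Lib.Helper48.coprime_generation_le R A hcomm hA.2 hnc hpR (hAM.trans hRM)
  intro u hu hu1
  have hXA : Subgroup.zpowers u ≤ A := by rw [Subgroup.zpowers_le]; exact hu
  have hXc : Nat.card (Subgroup.zpowers u) = p := by
    rw [Nat.card_zpowers]; exact orderOf_eq_prime (hA.2 u hu) hu1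
  obtain ⟨H, hH, hNH, hHne⟩ :=
    exists_other_of_not_good hG hM (hXA.trans hAM) hXc (hstar _ hXA hXc)
  have hcz : Subgroup.centralizer ({u} : Set G) ≤ H := by
    intro d hd
    apply hNH
    apply centralizer_le_normalizer' (Subgroup.zpowers u)
    rw [Subgroup.mem_centralizer_iff]
    intro y hy
    rw [SetLike.mem_coe, Subgroup.mem_zpowers_iff] at hy
    obtain ⟨k, rfl⟩ := hy
    have h1 : u * d = d * u := (Subgroup.mem_centralizer_iff.mp hd) u (Set.mem_singleton u)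
    exact (Commute.zpow_left h1 k).eq
  have hAcz : A ≤ Subgroup.centralizer ({u} : Set G) := by
    intro a ha
    rw [Subgroup.mem_centralizer_iff]
    intro y hy
    rw [Set.mem_singleton_iff] at hy
    rw [hy]
    exact hcomm u hu a ha
  have hAH : A ≤ H := hAcz.trans hcz
  have hDH : R ⊓ Subgroup.centralizer ({u} : Set G) ≤ H := inf_le_right.trans hcz
  have hAD : A ≤ Subgroup.normalizer
      ((R ⊓ Subgroup.centralizer ({u} : Set G) : Subgroup G) : Set G) := by
    intro a ha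
    have h1 := Subgroup.mem_normalizer_iff.mp (hRM (hAM ha))
    have h2 := Subgroup.mem_normalizer_iff.mp
      ((Subgroup.le_normalizer : Subgroup.centralizer ({u} : Set G) ≤ _) (hAcz ha))
    rw [Subgroup.mem_normalizer_iff]
    intro h
    exact ⟨fun hh => ⟨(h1 h).mp hh.1, (h2 h).mp hh.2⟩,
      fun hh => ⟨(h1 h).mpr hh.1, (h2 h).mpr hh.2⟩⟩
  have hpD : ¬ p ∣ Nat.card ↥(R ⊓ Subgroup.centralizer ({u} : Set G)) :=
    fun h => hpR (h.trans (Subgroup.card_dvd_of_le inf_le_left))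
  have hb1 := comm_mem_sigmaCore hG h1403 h1404 hN hH hAH hA hA2 hXA hXc hNH hDH hAD hpD
  have hbot := hR H hH hHne hAH ⟨_, hXA, hXc, hNH⟩
  intro d hd
  rw [Subgroup.mem_centralizer_iff]
  intro a ha
  have h1 : d * a * d⁻¹ * a⁻¹ ∈ R := by
    have h4 : a * d⁻¹ * a⁻¹ ∈ R :=
      (Subgroup.mem_normalizer_iff.mp (hRM (hAM ha)) d⁻¹).mp (R.inv_mem hd.1)
    have e : d * a * d⁻¹ * a⁻¹ = d * (a * d⁻¹ * a⁻¹) := by group
    rw [e]; exact R.mul_mem hd.1 h4
  have h2 : d * a * d⁻¹ * a⁻¹ ∈ R ⊓ sigmaCore H := ⟨h1, hb1 d hd a ha⟩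
  rw [hbot, Subgroup.mem_bot] at h2
  calc a * d = (d * a * d⁻¹ * a⁻¹)⁻¹ * (d * a) := by group
    _ = d * a := by rw [h2]; group

/-- `M_α ≠ 1` has rank at least two (indeed three). -/
theorem not_rankLE_one_alphaCore (hG : IsMinSimpleOddOrder G) (h1403 : H1403 G)
    (h1404 : H1404 G) {M : Subgroup G} (hM : IsCoatom M) (hne : alphaCore M ≠ ⊥) :
    ¬ Cfsg.RankLE 1 ↥(alphaCore M) := by
  have h1405 := h1405_of hG h1403 h1404
  obtain ⟨hHall, -, -, -, -⟩ := h1405 M hM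
  obtain ⟨q, hq, hqT⟩ := exists_prime_dvd_card_of_ne_bot hne
  haveI : Fact q.Prime := ⟨hq⟩
  have hqα : q ∈ alpha M := alphaCore_isPi' M q hq hqT
  have hrk := hqα.2
  rw [Cfsg.Agent.Lib.Helper24.pRankLE_subgroup_iff] at hrk
  push Not at hrk
  obtain ⟨E, hEM, hEc, hEe, hEcard⟩ := hrk
  have hEp : IsPGroup q E := by
    intro x
    refine ⟨1, Subtype.ext ?_⟩
    rw [pow_one, Subgroup.coe_pow, Subgroup.coe_one]
    exact hEe x x.2
  have hNα : Subgroup.normalizer ((alphaCore M : Subgroup G) : Set G) = M :=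
    Cfsg.Agent.Lib.Helper47.BG.normalizer_eq_of_coatom hG hM (alphaCore_le' M) hne
      (alphaCore_normalizer' M)
  have hEle : E ≤ alphaCore M := by
    apply Cfsg.Agent.Lib.Helper75.BG.le_of_coprime_relIndex (alphaCore M) E
    · rw [hNα]; exact hEM
    · rw [hNα]
      obtain ⟨n, hn⟩ := IsPGroup.iff_card.mp hEp
      rw [hn]
      exact Nat.Coprime.pow_left n ((Nat.Prime.coprime_iff_not_dvd hq).mpr (hHall.2.2 q hq hqα))
  have hEea : Cfsg.IsElementaryAbelian q E :=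
    ⟨⟨⟨fun a b => Subtype.ext (hEc a a.2 b b.2)⟩⟩, hEe⟩
  have h2 : ¬ Cfsg.PRankLE q 2 ↥(alphaCore M) :=
    Cfsg.Agent.Lib.Helper23.not_pRankLE_of_le q hEea hEle hEcard
  exact not_rankLE_of_not_pRankLE (fun h => h2 (pRankLE_mono hq.pos (by norm_num) h))

/-- BG 12.4 (b), step: `M_α = 1` under `(*)` when `p ∉ α(M)`. -/
theorem alphaCore_eq_bot_of_star (hG : IsMinSimpleOddOrder G) (h1403 : H1403 G)
    (h1404 : H1404 G) (hU : HExcUniq G) (hN : HExcNormal G) {M : Subgroup G} (hM : IsCoatom M)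
    {p : ℕ} [hp : Fact p.Prime] {A : Subgroup G} (hAM : A ≤ M)
    (hA : Cfsg.IsElementaryAbelian p A) (hA2 : Nat.card A = p ^ 2)
    (hstar : ∀ X : Subgroup G, X ≤ A → Nat.card X = p → ¬ Good M X)
    (hr : Cfsg.PRankLE p 2 M) : alphaCore M = ⊥ := by
  by_contra hne
  have h1405 := h1405_of hG h1403 h1404
  obtain ⟨hHall, -, -, -, -⟩ := h1405 M hM
  have hpα : p ∉ alpha M := fun h => h.2 hr
  have hpR : ¬ p ∣ Nat.card (alphaCore M) := fun h => hpα (alphaCore_isPi' M p hp.out h)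
  have hcent : alphaCore M ≤ Subgroup.centralizer (A : Set G) :=
    le_centralizer_of_star hG h1403 h1404 hN hM hAM hA hA2 hstar (alphaCore M)
      (alphaCore_normalizer' M) hpR
      (fun H hH hHne hAH ⟨X, hXA, hX, hNX⟩ =>
        (sigma_inf_eq_bot hG h1403 h1404 hU hM hH hHne hAM hAH hA hA2 hXA hX hNX).1)
  obtain ⟨X, hXA, hX⟩ := exists_le_card_prime hA hA2
  apply hstar X hXA hX
  have hXM := hXA.trans hAM
  have hU' : Cfsg.InUniqueMaximal (M ⊓ Subgroup.centralizer (X : Set G)) := by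
    apply Cfsg.Agent.Lib.Helper65.BG.s1406_core hG h1403 M hM hHall X hXM
    · intro q hq hqX hqα
      rw [hX] at hqX
      have hqp : q = p := (Nat.prime_dvd_prime_iff_eq hq hp.out).mp hqX
      exact hpα (hqp ▸ hqα)
    · have heq : alphaCore M ⊓ Subgroup.centralizer (X : Set G) = alphaCore M :=
        inf_eq_left.mpr (hcent.trans (centralizer_anti hXA))
      rw [heq]
      exact not_rankLE_one_alphaCore hG h1403 h1404 hM hne
  exact good_of_unique hG hM inf_le_left hU' (ne_bot_of_card_prime hX) hXM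
    (inf_le_right.trans (centralizer_le_normalizer' X))

/-- If `M_α = 1` then `M'` is nilpotent. -/
theorem commutator_nilpotent_of_alphaCore_eq_bot (hG : IsMinSimpleOddOrder G) (h1403 : H1403 G)
    (h1404 : H1404 G) {M : Subgroup G} (hM : IsCoatom M) (hα : alphaCore M = ⊥) :
    Group.IsNilpotent ↥(⁅M, M⁆ : Subgroup G) := by
  have h1405 := h1405_of hG h1403 h1404
  have hnil0 := (h1405 M hM).2.2.2.2
  have hpi : Cfsg.piCore (Cfsg.alpha M) ↥M = ⊥ := by
    unfold Cfsg.alphaCore at hα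
    exact (Subgroup.map_eq_bot_iff_of_injective _ M.subtype_injective).mp hα
  have hinj : Function.Injective (QuotientGroup.mk' (Cfsg.piCore (Cfsg.alpha M) ↥M)) := by
    rw [← MonoidHom.ker_eq_bot_iff, QuotientGroup.ker_mk', hpi]
  have hnil1 : Group.IsNilpotent ↥(commutator ↥M) := by
    have e := (commutator ↥M).equivMapOfInjective _ hinj
    exact Group.nilpotent_of_mulEquiv e.symm
  have e := (commutator ↥M).equivMapOfInjective M.subtype M.subtype_injective
  have h1 := Group.nilpotent_of_mulEquiv e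
  rw [Subgroup.map_subtype_commutator] at h1
  exact h1

theorem sigmaCore_nilpotent_of_alphaCore_eq_bot (hG : IsMinSimpleOddOrder G) (h1403 : H1403 G)
    (h1404 : H1404 G) {M : Subgroup G} (hM : IsCoatom M) (hα : alphaCore M = ⊥) :
    Group.IsNilpotent ↥(sigmaCore M) :=
  Cfsg.Agent.Lib.Helper75.BG.isNilpotent_of_le
    (Cfsg.Agent.Lib.Helper66.BG.sigmaCore_le_commutator hG h1404 M hM)
    (commutator_nilpotent_of_alphaCore_eq_bot hG h1403 h1404 hM hα)

end Cfsg.Agent.Lib.Helper29.BG
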