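import Mathlib
import Cfsg.Prelude.Def_OddOrderLocal
import Cfsg.Agent.Lib.Helper29.BG.S1416B
import Cfsg.Agent.Lib.Helper15.BG.Signalizer

/-!
Bender–Glauberman Proposition 12.4 (statement S1416), part C: `p ∈ σ(M)` (via the signalizer
argument 10.11), `C_G(A) ≤ M`, and the assembled core `s1416_core`.
-/

set_option autoImplicit false

namespace Cfsg.Agent.Lib.Helper29.BG

open Cfsg Cfsg.Agent.Lib.Helper35.BG Cfsg.Agent.Lib.Helper46

variable {G : Type*} [Group G] [Finite G]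

/-- BG 10.11: for a maximal elementary abelian `A` of order `p²` and `Q` a maximal `A`-invariant
`q`-subgroup (`q ≠ p` dividing `#C_G(A)`), some Sylow `p`-subgroup of `G` containing `A` lies in
the derived subgroup of `N_G(Q)`. -/
theorem sylow_in_commutator (hG : IsMinSimpleOddOrder G)
    (p q : ℕ) [hp : Fact p.Prime] [hq : Fact q.Prime] (hpq : p ≠ q)
    (h1410 : ∀ H : Subgroup G, H ≠ ⊤ → PLengthLE p 1 H)
    (A : Subgroup G) (hAe : IsElementaryAbelian p A) (hA2 : Nat.card A = p ^ 2)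
    (hAmax : ∀ x ∈ Subgroup.centralizer (A : Set G), x ^ p = 1 → x ∈ A)
    (hqC : q ∣ Nat.card (Subgroup.centralizer (A : Set G)))
    (Q : Subgroup G) (hQ : Q ∈ maxInvSubgroups ⊤ A {q}) :
    ∃ S : Subgroup G, IsSylowIn p S ⊤ ∧ A ≤ S ∧
      S ≤ ⁅Subgroup.normalizer (Q : Set G), Subgroup.normalizer (Q : Set G)⁆ := by
  classical
  have hpp : p.Prime := hp.out
  have hqp : q.Prime := hq.out
  have hAp : IsPGroup p A := IsPGroup.of_card hA2
  have hAc : IsMulCommutative A := hAe.1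
  have hcomm : ∀ a ∈ A, ∀ b ∈ A, a * b = b * a := fun a ha b hb =>
    congrArg Subtype.val (hAc.is_comm.comm ⟨a, ha⟩ ⟨b, hb⟩)
  have hpG : p ∣ Nat.card G :=
    (Dvd.intro_left p (by rw [hA2]; ring : p * p = Nat.card A)).trans
      (Subgroup.card_subgroup_dvd_card A)
  have hTH : TransitivityHypothesis A :=
    Cfsg.Agent.S1396.result hG p hpG A hAp hAc
      (Or.inl ⟨fun x hx => ⟨hAmax x hx, fun hxA => hAe.2 x hxA⟩, h1410⟩)
  have hqA : ¬ q ∣ Nat.card A := by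
    rw [hA2]
    intro h
    exact hpq ((Nat.prime_dvd_prime_iff_eq hqp hpp).mp (hqp.dvd_of_dvd_pow h)).symm
  have hAC : A ≤ Subgroup.centralizer (A : Set G) := by
    intro a ha
    rw [Subgroup.mem_centralizer_iff]
    intro b hb
    exact hcomm b hb a ha
  have hZ : ¬ RankLE 1 ↥(A ⊓ Subgroup.centralizer (A : Set G)) := by
    intro h
    have h1 := h p hpp ⊤ ⟨⟨fun a b => Subtype.ext (Subtype.ext
      (hcomm _ (a : ↥(A ⊓ Subgroup.centralizer (A : Set G))).2.1 _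
        (b : ↥(A ⊓ Subgroup.centralizer (A : Set G))).2.1))⟩⟩
      (fun a _ => Subtype.ext (by
        rw [Subgroup.coe_pow, Subgroup.coe_one]; exact hAe.2 _ a.2.1))
    have heq : A ⊓ Subgroup.centralizer (A : Set G) = A :=
      le_antisymm inf_le_left (le_inf le_rfl hAC)
    have h2 : Nat.card (⊤ : Subgroup ↥(A ⊓ Subgroup.centralizer (A : Set G))) = p ^ 2 := by
      rw [Subgroup.card_top, heq, hA2]
    rw [h2, pow_one] at h1
    have h3 : p * 2 ≤ p * p := Nat.mul_le_mul_left p hpp.two_le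
    nlinarith [hpp.two_le]
  have htr := Cfsg.Agent.S1394.result hG A hTH hZ q hqp hqA hqC
  obtain ⟨S, hAS⟩ := hAp.exists_le_sylow
  have hSp : IsPGroup p (S : Subgroup G) := S.isPGroup'
  have hS : (S : Subgroup G) ≠ ⊤ := Cfsg.Agent.Lib.Helper72.BG8.isPGroup_ne_top hG hSp
  obtain ⟨V, hV, -⟩ := Cfsg.Agent.Lib.Helper9.BG.exists_isComplIn_of_normal_sylow S
    (Subgroup.normalizer ((S : Subgroup G) : Set G)) Subgroup.le_normalizer
    Subgroup.normal_in_normalizer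
  have h1411 := Cfsg.Agent.Lib.Helper64.BG.s1411_core hG p h1410 S V hV
  obtain ⟨Q₁, hQ₁⟩ := Cfsg.Agent.Lib.Helper15.BG.exists_maxInv (S : Subgroup G) q
  have hPπ : ∀ r : ℕ, r.Prime → r ∣ Nat.card (S : Subgroup G) → r ∣ Nat.card A := by
    intro r hr hdvd
    obtain ⟨n, hn⟩ := IsPGroup.iff_card.mp hSp
    rw [hn] at hdvd
    have : r = p := (Nat.prime_dvd_prime_iff_eq hr hpp).mp (hr.dvd_of_dvd_pow hdvd)
    rw [this, hA2]
    exact Dvd.intro_left p (by ring)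
  have hsn : (A.subgroupOf (S : Subgroup G)).IsSubnormal := by
    haveI : Group.IsNilpotent (S : Subgroup G) := hSp.isNilpotent
    exact Cfsg.Agent.S0541.isSubnormal_of_isNilpotent _
  obtain ⟨-, -, hsub, hd⟩ :=
    Cfsg.Agent.S1395.result hG A hTH q hqp hqA (S : Subgroup G) hS hPπ hAS hsn htr
  obtain ⟨k, hk, hQk⟩ := htr Q₁ (hsub hQ₁) Q hQ
  have hkC : k ∈ Subgroup.centralizer (A : Set G) := Subgroup.map_subtype_le _ hk
  have hSQ₁ : (S : Subgroup G) ≤ ⁅Subgroup.normalizer (Q₁ : Set G),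
      Subgroup.normalizer (Q₁ : Set G)⁆ := fun s hs => (hd Q₁ hQ₁).1 ⟨hs, h1411.2 hs⟩
  refine ⟨(S : Subgroup G).map (MulAut.conj k).toMonoidHom, ⟨le_top, ?_⟩, ?_, ?_⟩
  · rw [card_map_conj, Subgroup.card_top]
    exact S.card_eq_multiplicity
  · intro a ha
    have hak : k * a * k⁻¹ = a := by
      have := (Subgroup.mem_centralizer_iff.mp hkC) a ha
      rw [← this]; group
    exact ⟨a, hAS ha, hak⟩
  · rw [hQk, Cfsg.Agent.Lib.Helper35.BG.normalizer_map_conj, ← Subgroup.map_commutator]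
    exact Subgroup.map_mono hSQ₁

/-- BG 12.4 (b), step: `p ∈ σ(M)` under `(*)`. -/
theorem mem_sigma_of_star (hG : IsMinSimpleOddOrder G) (h1403 : H1403 G) (h1404 : H1404 G)
    (h1410 : ∀ (p : ℕ) [Fact p.Prime] (H : Subgroup G), H ≠ ⊤ → PLengthLE p 1 H)
    (hU : HExcUniq G) (hN : HExcNormal G) {M : Subgroup G} (hM : IsCoatom M)
    {p : ℕ} [hp : Fact p.Prime] {A : Subgroup G} (hAM : A ≤ M)
    (hA : Cfsg.IsElementaryAbelian p A) (hA2 : Nat.card A = p ^ 2)
    (hstar : ∀ X : Subgroup G, X ≤ A → Nat.card X = p → ¬ Good M X)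
    (hα : alphaCore M = ⊥) : p ∈ sigma M := by
  by_contra hps
  have h1405 := h1405_of hG h1403 h1404
  have hnilD := commutator_nilpotent_of_alphaCore_eq_bot hG h1403 h1404 hM hα
  have hnilσ := sigmaCore_nilpotent_of_alphaCore_eq_bot hG h1403 h1404 hM hα
  have hpR : ¬ p ∣ Nat.card (sigmaCore M) :=
    fun h => hps (Cfsg.Agent.Lib.Helper67.BG.sigmaCore_isPi M p hp.out h)
  have hcent : sigmaCore M ≤ Subgroup.centralizer (A : Set G) :=
    le_centralizer_of_star hG h1403 h1404 hN hM hAM hA hA2 hstar (sigmaCore M)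
      (Cfsg.Agent.Lib.Helper67.BG.sigmaCore_normalizer M) hpR
      (fun H hH hHne hAH ⟨X, hXA, hX, hNX⟩ =>
        (sigma_inf_eq_bot hG h1403 h1404 hU hM hH hHne hAM hAH hA hA2 hXA hX hNX).2 hnilσ)
  have hne := Cfsg.Agent.Lib.Helper47.BG.sigmaCore_ne_bot hG h1405 M hM
  obtain ⟨q, hq, hqT⟩ := exists_prime_dvd_card_of_ne_bot hne
  haveI : Fact q.Prime := ⟨hq⟩
  have hqM : q ∈ sigma M := Cfsg.Agent.Lib.Helper67.BG.sigmaCore_isPi M q hq hqT
  have hpq : p ≠ q := fun h => hps (h ▸ hqM)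
  obtain ⟨Q, hQ, -⟩ := exists_isSylowIn_ge (p := q) (Q := ⊥) (H := M) IsPGroup.of_bot bot_le
  have hQq : IsPGroup q Q := sylIn_isPGroup hQ
  have hQs : Q ≤ sigmaCore M := le_sigmaCore_of_pGroup hG h1403 h1404 hM hqM hQq hQ.1
  have hQC : Q ≤ Subgroup.centralizer (A : Set G) := hQs.trans hcent
  have hQt : IsSylowIn q Q ⊤ := isSylowIn_top_of_sigma hqM hQ
  have hQ1 : Q ≠ ⊥ := sylIn_ne_bot hQ hqM.2.1
  have hNQ : Subgroup.normalizer (Q : Set G) ≤ M := normalizer_le_of_sigma hqM hQ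
  have hAQ : A ≤ Subgroup.normalizer (Q : Set G) := by
    intro a ha
    apply centralizer_le_normalizer' Q
    rw [Subgroup.mem_centralizer_iff]
    intro x hx
    exact ((Subgroup.mem_centralizer_iff.mp (hQC hx)) a ha).symm
  have hQmax : Q ∈ maxInvSubgroups ⊤ A {q} := by
    refine ⟨⟨le_top, ?_, hAQ⟩, ?_⟩
    · intro r hr hdvd
      exact Cfsg.Agent.Lib.Helper67.BG.prime_eq_of_dvd_card_isPGroup hQq hr hdvd
    · intro R hR hQR
      exact sylIn_eq_of_le hQt (Cfsg.Agent.Lib.Helper15.BG.isPGroup_of_mem_invSubgroups hR)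
        le_top hQR
  have hqC : q ∣ Nat.card (Subgroup.centralizer (A : Set G)) :=
    (Cfsg.Agent.Lib.Helper67.BG.dvd_card_of_isPGroup_ne_bot hQq hQ1).trans
      (Subgroup.card_dvd_of_le hQC)
  have hAmax : ∀ B : Subgroup G, Cfsg.IsElementaryAbelian p B → A ≤ B → B = A :=
    fun B hB hAB => Cfsg.Agent.Lib.Helper20.BG.s1408_max hG h1403 M hM p hps A hAM hA hA2 B hB hAB
  obtain ⟨S, hS, hAS, hSD⟩ := sylow_in_commutator hG p q hpq (h1410 p) A hA hA2
    (fun x hx hxp => Cfsg.Agent.Lib.Helper15.BG.mem_of_ea_max hA hAmax x hx hxp) hqC Q hQmax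
  have hSD' : S ≤ ⁅M, M⁆ := hSD.trans (Subgroup.commutator_mono hNQ hNQ)
  have hcomM : (⁅M, M⁆ : Subgroup G) ≤ M := by
    rw [Subgroup.commutator_le]
    intro a ha b hb
    rw [commutatorElement_def]
    exact M.mul_mem (M.mul_mem (M.mul_mem ha hb) (M.inv_mem ha)) (M.inv_mem hb)
  have hSM : S ≤ M := hSD'.trans hcomM
  have hSn : M ≤ Subgroup.normalizer (S : Set G) :=
    le_normalizer_sylIn_of_nilpotent (Cfsg.Agent.Lib.Helper31.BG.le_normalizer_commutator_self M)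
      hnilD (sylIn_mono hS hSD' le_top)
  obtain ⟨X, hXA, hX⟩ := exists_le_card_prime hA hA2
  have hS1 : S ≠ ⊥ := by
    intro h
    exact ne_bot_of_card_prime hX (le_bot_iff.mp (h ▸ (hXA.trans hAS)))
  have hNS : Subgroup.normalizer (S : Set G) = M :=
    Cfsg.Agent.Lib.Helper47.BG.normalizer_eq_of_coatom hG hM hSM hS1 hSn
  have hSylM : IsSylowIn p S M := sylIn_mono hS hSM le_top
  obtain ⟨P, hP⟩ := hSylM.exists_sylow
  apply hps
  refine ⟨hp.out, ?_, P, ?_⟩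
  · have h1 : p ∣ Nat.card A := by rw [hA2]; exact dvd_pow_self p two_ne_zero
    exact h1.trans (Subgroup.card_dvd_of_le hAM)
  · rw [hP, hNS]

/-- `Ω₁(Z(P))`: the central elements `z` of `P` with `z ^ p = 1`. -/
def omegaZ (p : ℕ) (P : Subgroup G) : Subgroup G where
  carrier := {z | z ∈ P ∧ (∀ x ∈ P, x * z = z * x) ∧ z ^ p = 1}
  one_mem' := ⟨P.one_mem, fun x _ => by rw [mul_one, one_mul], one_pow p⟩
  mul_mem' := by
    rintro a b ⟨ha, hac, hap⟩ ⟨hb, hbc, hbp⟩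
    refine ⟨P.mul_mem ha hb, fun x hx => ?_, ?_⟩
    · rw [← mul_assoc, hac x hx, mul_assoc, hbc x hx, ← mul_assoc]
    · have hab : Commute a b := hbc a ha
      rw [hab.mul_pow, hap, hbp, one_mul]
  inv_mem' := by
    rintro a ⟨ha, hac, hap⟩
    refine ⟨P.inv_mem ha, fun x hx => ?_, by rw [inv_pow, hap, inv_one]⟩
    have h := hac x hx
    calc x * a⁻¹ = a⁻¹ * (a * x) * a⁻¹ := by group
      _ = a⁻¹ * (x * a) * a⁻¹ := by rw [h]
      _ = a⁻¹ * x := by group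

theorem mem_omegaZ {p : ℕ} {P : Subgroup G} {z : G} :
    z ∈ omegaZ p P ↔ z ∈ P ∧ (∀ x ∈ P, x * z = z * x) ∧ z ^ p = 1 := Iff.rfl

/-- BG 12.4 (a) under `(*)`. -/
theorem centralizer_le_of_star (hG : IsMinSimpleOddOrder G) (h1403 : H1403 G) (h1404 : H1404 G)
    {M : Subgroup G} (hM : IsCoatom M) {p : ℕ} [hp : Fact p.Prime] {A : Subgroup G}
    (hAM : A ≤ M) (hA : Cfsg.IsElementaryAbelian p A) (hA2 : Nat.card A = p ^ 2)
    (hstar : ∀ X : Subgroup G, X ≤ A → Nat.card X = p → ¬ Good M X)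
    (hr : Cfsg.PRankLE p 2 M) (hps : p ∈ sigma M) (hnil : Group.IsNilpotent (sigmaCore M)) :
    Subgroup.centralizer (A : Set G) ≤ M := by
  have hpp : p.Prime := hp.out
  have hAp : IsPGroup p A := Cfsg.Agent.Lib.Helper20.BG.isPGroup_of_ea hA
  obtain ⟨P, hP, hAP⟩ := exists_isSylowIn_ge hAp hAM
  have hPp : IsPGroup p P := sylIn_isPGroup hP
  have hPM : P ≤ M := hP.1
  have hPs : P ≤ sigmaCore M := le_sigmaCore_of_pGroup hG h1403 h1404 hM hps hPp hPM
  have hPn : M ≤ Subgroup.normalizer (P : Set G) :=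
    le_normalizer_sylIn_of_nilpotent (Cfsg.Agent.Lib.Helper67.BG.sigmaCore_normalizer M) hnil
      (sylIn_mono hP hPs (Cfsg.Agent.Lib.Helper67.BG.sigmaCore_le M))
  obtain ⟨X₀, hX₀A, hX₀⟩ := exists_le_card_prime hA hA2
  -- `Ω ≤ A`
  have hΩA : omegaZ p P ≤ A := by
    intro z hz
    obtain ⟨hzP, hzc, hzp⟩ := mem_omegaZ.mp hz
    by_contra hzA
    have hzC : z ∈ Subgroup.centralizer (A : Set G) := by
      rw [Subgroup.mem_centralizer_iff]
      intro a ha
      exact hzc a (hAP ha)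
    have hKe : Cfsg.IsElementaryAbelian p (A ⊔ Subgroup.zpowers z) :=
      Cfsg.Agent.Lib.Helper15.BG.ea_sup_zpowers_of_centralizes hA z hzC hzp
    have hlt : A < A ⊔ Subgroup.zpowers z := by
      refine lt_of_le_of_ne le_sup_left ?_
      intro h
      apply hzA
      rw [h]
      exact (le_sup_right : Subgroup.zpowers z ≤ _) (Subgroup.mem_zpowers _)
    have hcard : p ^ 2 < Nat.card ↥(A ⊔ Subgroup.zpowers z) := by
      rw [← hA2]; exact card_lt_of_lt hlt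
    have hKM : A ⊔ Subgroup.zpowers z ≤ M :=
      sup_le hAM (by rw [Subgroup.zpowers_le]; exact hPM hzP)
    exact Cfsg.Agent.Lib.Helper23.not_pRankLE_of_le p hKe hKM hcard hr
  -- `M` normalizes `Ω`
  have hΩn : M ≤ Subgroup.normalizer ((omegaZ p P : Subgroup G) : Set G) := by
    intro m hm
    apply Cfsg.Agent.Lib.Helper64.BG.mem_normalizer_of_conj
    intro z hz
    obtain ⟨hzP, hzc, hzp⟩ := mem_omegaZ.mp hz
    rw [mem_omegaZ]
    refine ⟨(Subgroup.mem_normalizer_iff.mp (hPn hm) z).mp hzP, fun x hx => ?_, ?_⟩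
    · have hx' : m⁻¹ * x * m⁻¹⁻¹ ∈ P :=
        (Subgroup.mem_normalizer_iff.mp ((Subgroup.normalizer (P : Set G)).inv_mem (hPn hm)) x).mp hx
      have h1 := hzc _ hx'
      calc x * (m * z * m⁻¹) = m * ((m⁻¹ * x * m⁻¹⁻¹) * z) * m⁻¹ := by group
        _ = m * (z * (m⁻¹ * x * m⁻¹⁻¹)) * m⁻¹ := by rw [h1]
        _ = m * z * m⁻¹ * x := by group
    · rw [conj_pow, hzp, mul_one, mul_inv_cancel]
  -- `Ω ≠ 1`
  have hΩ1 : omegaZ p P ≠ ⊥ := by
    have hPnt : Nontrivial P := by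
      rw [Subgroup.nontrivial_iff_ne_bot]
      intro h
      exact ne_bot_of_card_prime hX₀ (le_bot_iff.mp (h ▸ (hX₀A.trans hAP)))
    obtain ⟨z, hzc, hzo⟩ := Cfsg.Agent.Lib.Helper23.exists_central_orderOf_eq p hPp
    have hzo' : orderOf (z : G) = p := by rw [Subgroup.orderOf_coe, hzo]
    have hzΩ : (z : G) ∈ omegaZ p P := by
      rw [mem_omegaZ]
      refine ⟨z.2, fun x hx => ?_, ?_⟩
      · exact congrArg Subtype.val (Subgroup.mem_center_iff.mp hzc ⟨x, hx⟩)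
      · rw [← hzo', pow_orderOf_eq_one]
    intro h
    rw [h, Subgroup.mem_bot] at hzΩ
    rw [hzΩ, orderOf_one] at hzo'
    exact hpp.one_lt.ne hzo'
  have hNΩ : Subgroup.normalizer ((omegaZ p P : Subgroup G) : Set G) = M :=
    Cfsg.Agent.Lib.Helper47.BG.normalizer_eq_of_coatom hG hM (hΩA.trans hAM) hΩ1 hΩn
  by_cases hΩeq : omegaZ p P = A
  · rw [← hΩeq]
    exact (centralizer_le_normalizer' (omegaZ p P)).trans hNΩ.le
  · exfalso
    have hcard : Nat.card (omegaZ p P) = p := by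
      have hdvd : Nat.card (omegaZ p P) ∣ p ^ 2 := by
        rw [← hA2]; exact Subgroup.card_dvd_of_le hΩA
      obtain ⟨k, hk2, hk⟩ := (Nat.dvd_prime_pow hpp).mp hdvd
      interval_cases k
      · exfalso
        rw [pow_zero] at hk
        exact hΩ1 (Subgroup.eq_bot_of_card_eq _ hk)
      · rw [hk, pow_one]
      · exfalso
        exact hΩeq (Subgroup.eq_of_le_of_card_ge hΩA (by rw [hk, hA2]))
    apply hstar (omegaZ p P) hΩA hcard
    refine ⟨hNΩ.le, fun L hL hNL => ?_⟩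
    rw [hNΩ] at hNL
    by_contra hne'
    exact hL.1 (hM.2 L (lt_of_le_of_ne hNL (fun h => hne' h.symm)))

/-- **Bender–Glauberman Proposition 12.4** (statement S1416), from the Uniqueness Theorem (S1403),
BG 10.1 (S1404), `p`-length one (S1410), and BG 11.4 and 11.7 for exceptional maximal
subgroups. -/
theorem s1416_core (hG : IsMinSimpleOddOrder G) (h1403 : H1403 G) (h1404 : H1404 G)
    (h1410 : ∀ (p : ℕ) [Fact p.Prime] (H : Subgroup G), H ≠ ⊤ → PLengthLE p 1 H)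
    (hU : HExcUniq G) (hN : HExcNormal G)
    (M : Subgroup G) (hM : IsCoatom M) (p : ℕ) [Fact p.Prime] (A : Subgroup G)
    (hA : (A ≤ M ∧ Cfsg.IsElementaryAbelian p A ∧ Nat.card A = p ^ 2)) :
    Subgroup.centralizer (A : Set G) ≤ M ∧
      ((∀ A₀ : Subgroup G, A₀ ≤ A → Nat.card A₀ = p →
          ¬ (Subgroup.normalizer (A₀ : Set G) ≤ M ∧ ∀ L : Subgroup G, IsCoatom L →
            Subgroup.normalizer (A₀ : Set G) ≤ L → L = M)) →
        p ∈ Cfsg.sigma M ∧ Cfsg.alphaCore M = ⊥ ∧ Group.IsNilpotent (Cfsg.sigmaCore M)) := by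
  obtain ⟨hAM, hAe, hA2⟩ := hA
  by_cases hgood : ∃ X : Subgroup G, X ≤ A ∧ Nat.card X = p ∧ Good M X
  · obtain ⟨X, hXA, hX, hXg⟩ := hgood
    exact ⟨centralizer_le_of_good hXA hXg, fun h => absurd hXg (h X hXA hX)⟩
  · have hstar : ∀ X : Subgroup G, X ≤ A → Nat.card X = p → ¬ Good M X :=
      fun X hXA hX hXg => hgood ⟨X, hXA, hX, hXg⟩
    have hr : Cfsg.PRankLE p 2 M := by
      by_contra hr
      obtain ⟨X, hXA, hX, hXg⟩ := exists_good_of_rank hG h1403 M hM p A hAM hAe hA2 hr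
      exact hstar X hXA hX hXg
    have hα : alphaCore M = ⊥ :=
      alphaCore_eq_bot_of_star hG h1403 h1404 hU hN hM hAM hAe hA2 hstar hr
    have hnil := sigmaCore_nilpotent_of_alphaCore_eq_bot hG h1403 h1404 hM hα
    have hσ : p ∈ sigma M :=
      mem_sigma_of_star hG h1403 h1404 h1410 hU hN hM hAM hAe hA2 hstar hα
    exact ⟨centralizer_le_of_star hG h1403 h1404 hM hAM hAe hA2 hstar hr hσ hnil,
      fun _ => ⟨hσ, hα, hnil⟩⟩

end Cfsg.Agent.Lib.Helper29.BG
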