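import Mathlib
import Cfsg.Prelude.Def_OddOrderLocal
import Cfsg.Agent.Lib.Helper29.BG.S1416C
import Cfsg.Agent.S1392

/-!
Bender–Glauberman Corollary 11.4 for an exceptional maximal subgroup `M` (with respect to
`p`, `A`, `A₀`), given 11.3 (`M_σ` nilpotent): a maximal subgroup `H ⊇ A` with
`M_σ ∩ H_σ ≠ 1` is `M`.
-/

set_option autoImplicit false

namespace Cfsg.Agent.Lib.Helper29.BG

open Cfsg Cfsg.Agent.Lib.Helper35.BG Cfsg.Agent.Lib.Helper46

variable {G : Type*} [Group G] [Finite G]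

/-- A maximal elementary abelian `p`-subgroup of order `p²` satisfies the transitivity
hypothesis (S1396 (1) with `p`-length one). -/
theorem transHyp_of_max (hG : IsMinSimpleOddOrder G) {p : ℕ} [hp : Fact p.Prime]
    (h1410 : ∀ H : Subgroup G, H ≠ ⊤ → PLengthLE p 1 H) {A : Subgroup G}
    (hAe : IsElementaryAbelian p A) (hA2 : Nat.card A = p ^ 2)
    (hAmax : ∀ B : Subgroup G, IsElementaryAbelian p B → A ≤ B → B = A) :
    TransitivityHypothesis A := by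
  have hAp : IsPGroup p A := IsPGroup.of_card hA2
  have hpG : p ∣ Nat.card G :=
    (Dvd.intro_left p (by rw [hA2]; ring : p * p = Nat.card A)).trans
      (Subgroup.card_subgroup_dvd_card A)
  exact Cfsg.Agent.S1396.result hG p hpG A hAp hAe.1
    (Or.inl ⟨fun x hx => ⟨fun hxp => Cfsg.Agent.Lib.Helper15.BG.mem_of_ea_max hAe hAmax x hx hxp,
      fun hxA => hAe.2 x hxA⟩, h1410⟩)

/-- Every `q`-subgroup of `M` lies in a normal Sylow `q`-subgroup of `M`. -/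
theorem le_of_normal_sylIn {q : ℕ} [Fact q.Prime] {M Q Y : Subgroup G} (hQ : IsSylowIn q Q M)
    (hn : M ≤ Subgroup.normalizer (Q : Set G)) (hY : IsPGroup q Y) (hYM : Y ≤ M) : Y ≤ Q := by
  obtain ⟨Q', hQ', hYQ'⟩ := exists_isSylowIn_ge hY hYM
  obtain ⟨m, hm, rfl⟩ := hQ.exists_conj hQ'
  rwa [map_conj_eq_of_mem_normalizer (hn hm)] at hYQ'

theorem centralizer_singleton_le_normalizer_zpowers (u : G) :
    Subgroup.centralizer ({u} : Set G) ≤ Subgroup.normalizer ((Subgroup.zpowers u : Subgroup G) : Set G) := by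
  intro d hd
  apply centralizer_le_normalizer' (Subgroup.zpowers u)
  rw [Subgroup.mem_centralizer_iff]
  intro y hy
  rw [SetLike.mem_coe, Subgroup.mem_zpowers_iff] at hy
  obtain ⟨k, rfl⟩ := hy
  have h1 : u * d = d * u := (Subgroup.mem_centralizer_iff.mp hd) u (Set.mem_singleton u)
  exact (Commute.zpow_left h1 k).eq

/-- A Sylow `q`-subgroup of `G` normalized by `A` is a maximal `A`-invariant `q`-subgroup. -/
theorem mem_maxInv_of_sylIn_top {q : ℕ} [Fact q.Prime] {A R : Subgroup G}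
    (hR : IsSylowIn q R ⊤) (hAR : A ≤ Subgroup.normalizer (R : Set G)) :
    R ∈ maxInvSubgroups ⊤ A {q} := by
  refine ⟨⟨le_top, ?_, hAR⟩, ?_⟩
  · intro r hr hdvd
    exact Cfsg.Agent.Lib.Helper67.BG.prime_eq_of_dvd_card_isPGroup (sylIn_isPGroup hR) hr hdvd
  · intro R' hR' hRR'
    exact sylIn_eq_of_le hR (Cfsg.Agent.Lib.Helper15.BG.isPGroup_of_mem_invSubgroups hR')
      le_top hRR'

/-- **BG Corollary 11.4**, given 11.3. -/
theorem exc_uniq (hG : IsMinSimpleOddOrder G) (h1403 : H1403 G) (h1404 : H1404 G)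
    (h1410 : ∀ (p : ℕ) [Fact p.Prime] (H : Subgroup G), H ≠ ⊤ → PLengthLE p 1 H)
    {M : Subgroup G} (hM : IsCoatom M) {p : ℕ} [hp : Fact p.Prime] {A A₀ : Subgroup G}
    (hps : p ∉ sigma M) (hAM : A ≤ M) (hA : Cfsg.IsElementaryAbelian p A)
    (hA2 : Nat.card A = p ^ 2) (hA₀A : A₀ ≤ A)
    (hNA₀ : Subgroup.normalizer (A₀ : Set G) ≤ M)
    (hnil : Group.IsNilpotent (sigmaCore M)) :
    ∀ H : Subgroup G, IsCoatom H → A ≤ H → sigmaCore M ⊓ sigmaCore H ≠ ⊥ → H = M := by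
  intro H hH hAH hT
  have hpp : p.Prime := hp.out
  obtain ⟨q, hq, hqT⟩ := exists_prime_dvd_card_of_ne_bot hT
  haveI : Fact q.Prime := ⟨hq⟩
  have hqM : q ∈ sigma M := Cfsg.Agent.Lib.Helper67.BG.sigmaCore_isPi M q hq
    (hqT.trans (Subgroup.card_dvd_of_le inf_le_left))
  have hqH : q ∈ sigma H := Cfsg.Agent.Lib.Helper67.BG.sigmaCore_isPi H q hq
    (hqT.trans (Subgroup.card_dvd_of_le inf_le_right))
  have hpq : p ≠ q := fun h => hps (h ▸ hqM)
  -- the normal Sylow `q`-subgroup `Q` of `M`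
  obtain ⟨Q, hQ, -⟩ := exists_isSylowIn_ge (p := q) (Q := ⊥) (H := M) IsPGroup.of_bot bot_le
  have hQq : IsPGroup q Q := sylIn_isPGroup hQ
  have hQs : Q ≤ sigmaCore M := le_sigmaCore_of_pGroup hG h1403 h1404 hM hqM hQq hQ.1
  have hQn : M ≤ Subgroup.normalizer (Q : Set G) :=
    le_normalizer_sylIn_of_nilpotent (Cfsg.Agent.Lib.Helper67.BG.sigmaCore_normalizer M) hnil
      (sylIn_mono hQ hQs (Cfsg.Agent.Lib.Helper67.BG.sigmaCore_le M))
  have hQ1 : Q ≠ ⊥ := sylIn_ne_bot hQ hqM.2.1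
  have hNQ : Subgroup.normalizer (Q : Set G) = M :=
    Cfsg.Agent.Lib.Helper47.BG.normalizer_eq_of_coatom hG hM hQ.1 hQ1 hQn
  have hQt : IsSylowIn q Q ⊤ := isSylowIn_top_of_sigma hqM hQ
  -- the Sylow `q`-subgroup `Q₂ = Q^g` of `H`
  obtain ⟨g, hg⟩ := exists_conj_sylIn hqM hqH hQ
  have hNQ₂ : Subgroup.normalizer ((Q.map (MulAut.conj g).toMonoidHom : Subgroup G) : Set G) ≤ H :=
    normalizer_le_of_sigma hqH hg
  have hMg : M.map (MulAut.conj g).toMonoidHom = H := by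
    have h1 := hNQ₂
    rw [normalizer_map_conj, hNQ] at h1
    by_contra hne'
    exact hH.1 ((Cfsg.Agent.Lib.Helper47.isCoatom_map_conj hM g).2 H (lt_of_le_of_ne h1 hne'))
  have hHn : H ≤ Subgroup.normalizer ((Q.map (MulAut.conj g).toMonoidHom : Subgroup G) : Set G) := by
    rw [normalizer_map_conj, hNQ, hMg]
  obtain ⟨Q₂, hQ₂def⟩ : ∃ Q₂ : Subgroup G, Q₂ = Q.map (MulAut.conj g).toMonoidHom := ⟨_, rfl⟩
  rw [← hQ₂def] at hg hNQ₂ hHn
  have hQ₂t : IsSylowIn q Q₂ ⊤ := isSylowIn_top_of_sigma hqH hg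
  have hQmax := mem_maxInv_of_sylIn_top hQt (hAM.trans hQn)
  have hQ₂max := mem_maxInv_of_sylIn_top hQ₂t (hAH.trans hHn)
  -- `Q ∩ Q₂ ≠ 1`
  have hTne : Q ⊓ Q₂ ≠ ⊥ := by
    obtain ⟨x, hx⟩ := exists_prime_orderOf_dvd_card' (G := ↥(sigmaCore M ⊓ sigmaCore H)) q hqT
    have hxo : orderOf (x : G) = q := by rw [Subgroup.orderOf_coe]; exact hx
    have hZq : IsPGroup q (Subgroup.zpowers (x : G)) :=
      IsPGroup.of_card (n := 1) (by rw [Nat.card_zpowers, hxo, pow_one])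
    have hxM : Subgroup.zpowers (x : G) ≤ M := by
      rw [Subgroup.zpowers_le]; exact Cfsg.Agent.Lib.Helper67.BG.sigmaCore_le M x.2.1
    have hxH : Subgroup.zpowers (x : G) ≤ H := by
      rw [Subgroup.zpowers_le]; exact Cfsg.Agent.Lib.Helper67.BG.sigmaCore_le H x.2.2
    have h1 : (x : G) ∈ Q := le_of_normal_sylIn hQ hQn hZq hxM (Subgroup.mem_zpowers _)
    have h2 : (x : G) ∈ Q₂ := le_of_normal_sylIn hg hHn hZq hxH (Subgroup.mem_zpowers _)
    intro h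
    have h3 : (x : G) ∈ Q ⊓ Q₂ := ⟨h1, h2⟩
    rw [h, Subgroup.mem_bot] at h3
    rw [h3, orderOf_one] at hxo
    exact hq.one_lt.ne hxo
  -- coprime generation: some `u ∈ A#` has `C_{Q ∩ Q₂}(u) ≠ 1`
  have hcomm : ∀ x ∈ A, ∀ y ∈ A, x * y = y * x :=
    fun x hx y hy => Cfsg.Agent.Lib.Helper20.BG.ea_comm hA x hx y hy
  have hnc : ¬ IsCyclic A := by
    apply Cfsg.Agent.Lib.Helper49.BG.not_isCyclic_of_isElementaryAbelian hA
    rw [hA2]
    nlinarith [hpp.one_lt]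
  have hpT : ¬ p ∣ Nat.card ↥(Q ⊓ Q₂) := by
    intro h
    have hTq : IsPGroup q ↥(Q ⊓ Q₂) := hQq.to_le inf_le_left
    exact hpq (Cfsg.Agent.Lib.Helper67.BG.prime_eq_of_dvd_card_isPGroup hTq hpp h)
  have hAT : A ≤ Subgroup.normalizer ((Q ⊓ Q₂ : Subgroup G) : Set G) := by
    intro a ha
    have h1 := Subgroup.mem_normalizer_iff.mp (hQn (hAM ha))
    have h2 := Subgroup.mem_normalizer_iff.mp (hHn (hAH ha))
    rw [Subgroup.mem_normalizer_iff]
    intro h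
    exact ⟨fun hh => ⟨(h1 h).mp hh.1, (h2 h).mp hh.2⟩,
      fun hh => ⟨(h1 h).mpr hh.1, (h2 h).mpr hh.2⟩⟩
  have hex : ∃ u ∈ A, u ≠ 1 ∧ (Q ⊓ Q₂) ⊓ Subgroup.centralizer ({u} : Set G) ≠ ⊥ := by
    by_contra hcon
    push Not at hcon
    apply hTne
    rw [eq_bot_iff]
    exact Cfsg.Agent.Lib.Helper48.coprime_generation_le (Q ⊓ Q₂) A hcomm hA.2 hnc hpT hAT ⊥
      (fun u hu hu1 => (hcon u hu hu1).le)
  obtain ⟨u, hu, hu1, hCu⟩ := hex
  -- S1392 with the proper subgroup `C_G(u)`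
  have hAmax : ∀ B : Subgroup G, Cfsg.IsElementaryAbelian p B → A ≤ B → B = A :=
    fun B hB hAB => Cfsg.Agent.Lib.Helper20.BG.s1408_max hG h1403 M hM p hps A hAM hA hA2 B hB hAB
  have hTH := transHyp_of_max hG (h1410 p) hA hA2 hAmax
  have hqA : ¬ q ∣ Nat.card A := by
    rw [hA2]
    intro h
    exact hpq ((Nat.prime_dvd_prime_iff_eq hq hpp).mp (hq.dvd_of_dvd_pow h)).symm
  have hZA : Subgroup.zpowers u ≤ A := by rw [Subgroup.zpowers_le]; exact hu
  have hCne : Subgroup.centralizer ({u} : Set G) ≠ ⊤ := by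
    intro h
    have h1 : Subgroup.normalizer ((Subgroup.zpowers u : Subgroup G) : Set G) ≠ ⊤ :=
      normalizer_ne_top hG (fun h0 => hu1 (Subgroup.zpowers_eq_bot.mp h0))
        (ne_top_of_le_coatom hM (hZA.trans hAM))
    exact h1 (top_le_iff.mp (h ▸ centralizer_singleton_le_normalizer_zpowers u))
  have hAC : A ≤ Subgroup.centralizer ({u} : Set G) := by
    intro a ha
    rw [Subgroup.mem_centralizer_iff]
    intro y hy
    rw [Set.mem_singleton_iff] at hy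
    rw [hy]
    exact hcomm u hu a ha
  have h1 : Subgroup.centralizer ({u} : Set G) ⊓ Q ≠ ⊥ := by
    intro h
    apply hCu
    rw [eq_bot_iff, ← h]
    exact fun x hx => ⟨hx.2, hx.1.1⟩
  have h2 : Subgroup.centralizer ({u} : Set G) ⊓ Q₂ ≠ ⊥ := by
    intro h
    apply hCu
    rw [eq_bot_iff, ← h]
    exact fun x hx => ⟨hx.2, hx.1.2⟩
  obtain ⟨k, hk, hQk⟩ := Cfsg.Agent.S1392.result hG A hTH q hq hqA Q Q₂ hQmax hQ₂max
    (Subgroup.centralizer ({u} : Set G)) hCne hAC h1 h2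
  have hkC : k ∈ Subgroup.centralizer (A : Set G) := Subgroup.map_subtype_le _ hk
  have hkM : k ∈ M := hNA₀ (centralizer_le_normalizer' A₀ (centralizer_anti hA₀A hkC))
  have hQQ₂ : Q₂ = Q := by rw [hQk, map_conj_eq_of_mem_normalizer (hQn hkM)]
  have hMH : M ≤ H := by
    rw [hQQ₂, hNQ] at hNQ₂
    exact hNQ₂
  by_contra hne'
  exact hH.1 (hM.2 H (lt_of_le_of_ne hMH (fun h => hne' h.symm)))

end Cfsg.Agent.Lib.Helper29.BG
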