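import Mathlib
import Cfsg.Prelude.Def_OddOrderLocal
import Cfsg.Agent.Lib.Helper29.BG.Exc114
import Cfsg.Agent.Lib.Helper90.SylowCount
import Cfsg.Agent.Lib.Helper34.BG.S1429Core

/-!
Bender–Glauberman 11.1–11.3 for an exceptional maximal subgroup `M` (with respect to `p`, `A`,
`A₀`): `M_σ ∩ M^g = 1` for `g ∉ M` with `A ≤ M^g`, and `M_σ` is nilpotent.  With `Exc114` this
gives the hypothesis `HExcUniq G` of `s1416_core`.
-/

set_option autoImplicit false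

namespace Cfsg.Agent.Lib.Helper29.BG

open Cfsg Cfsg.Agent.Lib.Helper35.BG Cfsg.Agent.Lib.Helper46

variable {G : Type*} [Group G] [Finite G]

/-- Coprime generation: a noncyclic elementary abelian `A` acting on `T ≠ 1` of order prime to
`p` has a nonidentity element with nontrivial fixed points. -/
theorem exists_centralizer_inf_ne_bot {p : ℕ} [hp : Fact p.Prime] {A T : Subgroup G}
    (hA : Cfsg.IsElementaryAbelian p A) (hA2 : Nat.card A = p ^ 2) (hpT : ¬ p ∣ Nat.card T)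
    (hAT : A ≤ Subgroup.normalizer (T : Set G)) (hT : T ≠ ⊥) :
    ∃ u ∈ A, u ≠ 1 ∧ T ⊓ Subgroup.centralizer ({u} : Set G) ≠ ⊥ := by
  have hcomm : ∀ x ∈ A, ∀ y ∈ A, x * y = y * x :=
    fun x hx y hy => Cfsg.Agent.Lib.Helper20.BG.ea_comm hA x hx y hy
  have hnc : ¬ IsCyclic A := by
    apply Cfsg.Agent.Lib.Helper49.BG.not_isCyclic_of_isElementaryAbelian hA
    rw [hA2]
    nlinarith [hp.out.one_lt]
  by_contra hcon
  push Not at hcon
  apply hT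
  rw [eq_bot_iff]
  exact Cfsg.Agent.Lib.Helper48.coprime_generation_le T A hcomm hA.2 hnc hpT hAT ⊥
    (fun u hu hu1 => (hcon u hu hu1).le)

/-- Two maximal `A`-invariant `q`-subgroups with nontrivial intersection are conjugate under
`C_G(A)` (S1392 applied to the centralizer of a suitable element of `A`). -/
theorem exists_conj_of_inf_ne_bot (hG : IsMinSimpleOddOrder G) (h1403 : H1403 G)
    (h1410 : ∀ (p : ℕ) [Fact p.Prime] (H : Subgroup G), H ≠ ⊤ → PLengthLE p 1 H)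
    {M : Subgroup G} (hM : IsCoatom M) {p : ℕ} [hp : Fact p.Prime] {A : Subgroup G}
    (hps : p ∉ sigma M) (hAM : A ≤ M) (hA : Cfsg.IsElementaryAbelian p A)
    (hA2 : Nat.card A = p ^ 2) {q : ℕ} [hq : Fact q.Prime] (hpq : p ≠ q) {Q₁ Q₂ : Subgroup G}
    (h₁ : Q₁ ∈ maxInvSubgroups ⊤ A {q}) (h₂ : Q₂ ∈ maxInvSubgroups ⊤ A {q})
    (hT : Q₁ ⊓ Q₂ ≠ ⊥) :
    ∃ k ∈ Subgroup.centralizer (A : Set G), Q₂ = Q₁.map (MulAut.conj k).toMonoidHom := by
  have hpp : p.Prime := hp.out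
  have hqp : q.Prime := hq.out
  have hQ₁q : IsPGroup q Q₁ := Cfsg.Agent.Lib.Helper15.BG.isPGroup_of_mem_invSubgroups h₁.1
  have hpT : ¬ p ∣ Nat.card ↥(Q₁ ⊓ Q₂) := by
    intro h
    have hTq : IsPGroup q ↥(Q₁ ⊓ Q₂) := hQ₁q.to_le inf_le_left
    exact hpq (Cfsg.Agent.Lib.Helper67.BG.prime_eq_of_dvd_card_isPGroup hTq hpp h)
  have hAT : A ≤ Subgroup.normalizer ((Q₁ ⊓ Q₂ : Subgroup G) : Set G) := by
    intro a ha
    have h1 := Subgroup.mem_normalizer_iff.mp (h₁.1.2.2 ha)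
    have h2 := Subgroup.mem_normalizer_iff.mp (h₂.1.2.2 ha)
    rw [Subgroup.mem_normalizer_iff]
    intro h
    exact ⟨fun hh => ⟨(h1 h).mp hh.1, (h2 h).mp hh.2⟩,
      fun hh => ⟨(h1 h).mpr hh.1, (h2 h).mpr hh.2⟩⟩
  obtain ⟨u, hu, hu1, hCu⟩ := exists_centralizer_inf_ne_bot hA hA2 hpT hAT hT
  have hcomm : ∀ x ∈ A, ∀ y ∈ A, x * y = y * x :=
    fun x hx y hy => Cfsg.Agent.Lib.Helper20.BG.ea_comm hA x hx y hy
  have hAmax : ∀ B : Subgroup G, Cfsg.IsElementaryAbelian p B → A ≤ B → B = A :=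
    fun B hB hAB => Cfsg.Agent.Lib.Helper20.BG.s1408_max hG h1403 M hM p hps A hAM hA hA2 B hB hAB
  have hTH := transHyp_of_max hG (h1410 p) hA hA2 hAmax
  have hqA : ¬ q ∣ Nat.card A := by
    rw [hA2]
    intro h
    exact hpq ((Nat.prime_dvd_prime_iff_eq hqp hpp).mp (hqp.dvd_of_dvd_pow h)).symm
  have hZA : Subgroup.zpowers u ≤ A := by rw [Subgroup.zpowers_le]; exact hu
  have hCne : Subgroup.centralizer ({u} : Set G) ≠ ⊤ := by
    intro h
    have h1 : Subgroup.normalizer ((Subgroup.zpowers u : Subgroup G) : Set G) ≠ ⊤ :=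
      normalizer_ne_top hG (fun h0 => hu1 (Subgroup.zpowers_eq_bot.mp h0))
        (ne_top_of_le_coatom hM (hZA.trans hAM))
    exact h1 (top_le_iff.mp (h ▸ centralizer_singleton_le_normalizer_zpowers u))
  have hAC : A ≤ Subgroup.centralizer ({u} : Set G) := by
    intro a ha
    rw [Subgroup.mem_centralizer_iff]
    intro y hy
    rw [Set.mem_singleton_iff] at hy
    rw [hy]
    exact hcomm u hu a ha
  have h1 : Subgroup.centralizer ({u} : Set G) ⊓ Q₁ ≠ ⊥ := by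
    intro h
    apply hCu
    rw [eq_bot_iff, ← h]
    exact fun x hx => ⟨hx.2, hx.1.1⟩
  have h2 : Subgroup.centralizer ({u} : Set G) ⊓ Q₂ ≠ ⊥ := by
    intro h
    apply hCu
    rw [eq_bot_iff, ← h]
    exact fun x hx => ⟨hx.2, hx.1.2⟩
  obtain ⟨k, hk, hQk⟩ := Cfsg.Agent.S1392.result hG A hTH q hqp hqA Q₁ Q₂ h₁ h₂
    (Subgroup.centralizer ({u} : Set G)) hCne hAC h1 h2
  exact ⟨k, Subgroup.map_subtype_le _ hk, hQk⟩

/-- A Sylow `q`-subgroup of `M_σ` is a Sylow `q`-subgroup of `M` (`q ∈ σ(M)`). -/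
theorem sylIn_of_sigmaCore (hG : IsMinSimpleOddOrder G) (h1403 : H1403 G) (h1404 : H1404 G)
    {M : Subgroup G} (hM : IsCoatom M) {q : ℕ} [Fact q.Prime] (hq : q ∈ sigma M)
    {Q : Subgroup G} (hQ : IsSylowIn q Q (sigmaCore M)) : IsSylowIn q Q M := by
  have hQM : Q ≤ M := hQ.1.trans (Cfsg.Agent.Lib.Helper67.BG.sigmaCore_le M)
  obtain ⟨Q', hQ', hQQ'⟩ := exists_isSylowIn_ge (sylIn_isPGroup hQ) hQM
  have hQ'σ : Q' ≤ sigmaCore M :=
    le_sigmaCore_of_pGroup hG h1403 h1404 hM hq (sylIn_isPGroup hQ') hQ'.1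
  have heq : Q' = Q := sylIn_eq_of_le hQ (sylIn_isPGroup hQ') hQ'σ hQQ'
  exact heq ▸ hQ'

/-- **BG 11.1 / 11.2(a)**: for an exceptional `M` and `g ∉ M` with `A ≤ M^g`: `M_σ ∩ M^g = 1`. -/
theorem exc_inf_conj_eq_bot (hG : IsMinSimpleOddOrder G) (h1403 : H1403 G) (h1404 : H1404 G)
    (h1410 : ∀ (p : ℕ) [Fact p.Prime] (H : Subgroup G), H ≠ ⊤ → PLengthLE p 1 H)
    {M : Subgroup G} (hM : IsCoatom M) {p : ℕ} [hp : Fact p.Prime] {A A₀ : Subgroup G}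
    (hps : p ∉ sigma M) (hAM : A ≤ M) (hA : Cfsg.IsElementaryAbelian p A)
    (hA2 : Nat.card A = p ^ 2) (hA₀A : A₀ ≤ A)
    (hNA₀ : Subgroup.normalizer (A₀ : Set G) ≤ M) {g : G} (hg : g ∉ M)
    (hAg : A ≤ M.map (MulAut.conj g).toMonoidHom) :
    sigmaCore M ⊓ M.map (MulAut.conj g).toMonoidHom = ⊥ := by
  by_contra hD
  have hpp : p.Prime := hp.out
  have hAp : IsPGroup p A := Cfsg.Agent.Lib.Helper20.BG.isPGroup_of_ea hA
  have hσn := Cfsg.Agent.Lib.Helper67.BG.sigmaCore_normalizer M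
  have hpσ : ¬ p ∣ Nat.card (sigmaCore M) :=
    fun h => hps (Cfsg.Agent.Lib.Helper67.BG.sigmaCore_isPi M p hpp h)
  obtain ⟨q, hq, hqD⟩ := exists_prime_dvd_card_of_ne_bot hD
  haveI : Fact q.Prime := ⟨hq⟩
  have hqM : q ∈ sigma M := Cfsg.Agent.Lib.Helper67.BG.sigmaCore_isPi M q hq
    (hqD.trans (Subgroup.card_dvd_of_le inf_le_left))
  have hpq : p ≠ q := fun h => hps (h ▸ hqM)
  obtain ⟨D, hDdef⟩ : ∃ D : Subgroup G, D = sigmaCore M ⊓ M.map (MulAut.conj g).toMonoidHom :=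
    ⟨_, rfl⟩
  rw [← hDdef] at hqD
  have hDσ : D ≤ sigmaCore M := hDdef ▸ inf_le_left
  have hDg : D ≤ M.map (MulAut.conj g).toMonoidHom := hDdef ▸ inf_le_right
  have hAD : A ≤ Subgroup.normalizer (D : Set G) := by
    intro a ha
    have h1 := Subgroup.mem_normalizer_iff.mp (hσn (hAM ha))
    have h2 := Subgroup.mem_normalizer_iff.mp
      ((Subgroup.le_normalizer : M.map (MulAut.conj g).toMonoidHom ≤ _) (hAg ha))
    rw [hDdef, Subgroup.mem_normalizer_iff]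
    intro h
    exact ⟨fun hh => ⟨(h1 h).mp hh.1, (h2 h).mp hh.2⟩,
      fun hh => ⟨(h1 h).mpr hh.1, (h2 h).mpr hh.2⟩⟩
  have hpD : ¬ p ∣ Nat.card D := fun h => hpσ (h.trans (Subgroup.card_dvd_of_le hDσ))
  -- an `A`-invariant Sylow `q`-subgroup `S` of `D`
  obtain ⟨S', hS'⟩ := Cfsg.Agent.Lib.Helper48.exists_invariant_sylow D A hAp hpD hAD q
  have hSsyl : IsSylowIn q ((S' : Subgroup D).map D.subtype) D := isSylowIn_of_sylow S'
  obtain ⟨S, hSdef⟩ : ∃ S : Subgroup G, S = (S' : Subgroup D).map D.subtype := ⟨_, rfl⟩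
  rw [← hSdef] at hS' hSsyl
  have hSq : IsPGroup q S := sylIn_isPGroup hSsyl
  have hS1 : S ≠ ⊥ := sylIn_ne_bot hSsyl hqD
  have hSσ : S ≤ sigmaCore M := hSsyl.1.trans hDσ
  have hSg : S ≤ M.map (MulAut.conj g).toMonoidHom := hSsyl.1.trans hDg
  -- `Q₁`: an `A`-invariant Sylow `q`-subgroup of `M_σ` containing `S`
  obtain ⟨Q₁, hSQ₁, hQ₁σ, hAQ₁, hQ₁c⟩ :=
    Cfsg.Agent.Lib.Helper90.exists_invariant_sylow_ge A (sigmaCore M) S hAp (hAM.trans hσn) hpσ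
      hSσ hSq hS'
  have hQ₁syl : IsSylowIn q Q₁ M := sylIn_of_sigmaCore hG h1403 h1404 hM hqM ⟨hQ₁σ, hQ₁c⟩
  -- conjugate back by `g⁻¹`
  have hA'M : A.map (MulAut.conj g⁻¹).toMonoidHom ≤ M := by
    have h0 := Subgroup.map_mono (f := (MulAut.conj g⁻¹).toMonoidHom) hAg
    rwa [map_conj_mul, inv_mul_cancel, map_conj_one] at h0
  have hA'p : IsPGroup p (A.map (MulAut.conj g⁻¹).toMonoidHom) := isPGroup_map_conj hAp g⁻¹
  have hS'M : S.map (MulAut.conj g⁻¹).toMonoidHom ≤ M := by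
    have h0 := Subgroup.map_mono (f := (MulAut.conj g⁻¹).toMonoidHom) hSg
    rwa [map_conj_mul, inv_mul_cancel, map_conj_one] at h0
  have hS'q : IsPGroup q (S.map (MulAut.conj g⁻¹).toMonoidHom) := isPGroup_map_conj hSq g⁻¹
  have hS'σ : S.map (MulAut.conj g⁻¹).toMonoidHom ≤ sigmaCore M :=
    le_sigmaCore_of_pGroup hG h1403 h1404 hM hqM hS'q hS'M
  have hA'S' : A.map (MulAut.conj g⁻¹).toMonoidHom ≤
      Subgroup.normalizer ((S.map (MulAut.conj g⁻¹).toMonoidHom : Subgroup G) : Set G) := by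
    rw [normalizer_map_conj]; exact Subgroup.map_mono hS'
  obtain ⟨R, hS'R, hRσ, hA'R, hRc⟩ :=
    Cfsg.Agent.Lib.Helper90.exists_invariant_sylow_ge (A.map (MulAut.conj g⁻¹).toMonoidHom)
      (sigmaCore M) (S.map (MulAut.conj g⁻¹).toMonoidHom) hA'p (hA'M.trans hσn) hpσ hS'σ hS'q
      hA'S'
  have hRsyl : IsSylowIn q R M := sylIn_of_sigmaCore hG h1403 h1404 hM hqM ⟨hRσ, hRc⟩
  -- `Q₂ := R^g`
  have hSQ₂ : S ≤ R.map (MulAut.conj g).toMonoidHom := by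
    have h0 := Subgroup.map_mono (f := (MulAut.conj g).toMonoidHom) hS'R
    rwa [map_conj_mul, mul_inv_cancel, map_conj_one] at h0
  have hAQ₂ : A ≤ Subgroup.normalizer ((R.map (MulAut.conj g).toMonoidHom : Subgroup G) : Set G) := by
    rw [normalizer_map_conj]
    have h0 := Subgroup.map_mono (f := (MulAut.conj g).toMonoidHom) hA'R
    rwa [map_conj_mul, mul_inv_cancel, map_conj_one] at h0
  have hQ₁t := isSylowIn_top_of_sigma hqM hQ₁syl
  have hRt := isSylowIn_top_of_sigma hqM hRsyl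
  have hQ₂t : IsSylowIn q (R.map (MulAut.conj g).toMonoidHom) ⊤ :=
    ⟨le_top, by rw [card_map_conj]; exact hRt.2⟩
  have hQ₁max := mem_maxInv_of_sylIn_top hQ₁t hAQ₁
  have hQ₂max := mem_maxInv_of_sylIn_top hQ₂t hAQ₂
  have hTne : Q₁ ⊓ R.map (MulAut.conj g).toMonoidHom ≠ ⊥ := by
    intro h
    exact hS1 (le_bot_iff.mp (h ▸ le_inf hSQ₁ hSQ₂))
  obtain ⟨k, hkC, hQk⟩ :=
    exists_conj_of_inf_ne_bot hG h1403 h1410 hM hps hAM hA hA2 hpq hQ₁max hQ₂max hTne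
  have hkM : k ∈ M := hNA₀ (centralizer_le_normalizer' A₀ (centralizer_anti hA₀A hkC))
  have hQ₂M : R.map (MulAut.conj g).toMonoidHom ≤ M := by
    rw [hQk]
    calc Q₁.map (MulAut.conj k).toMonoidHom ≤ M.map (MulAut.conj k).toMonoidHom :=
          Subgroup.map_mono hQ₁syl.1
      _ = M := map_conj_eq_of_mem hkM
  have hR1 : R ≠ ⊥ := sylIn_ne_bot hRsyl hqM.2.1
  obtain ⟨hfus, -⟩ := h1404 M hM q hqM R (sylIn_isPGroup hRsyl) hR1 hRsyl.1
  obtain ⟨m, hm, c, hc, hgmc⟩ := hfus g hQ₂M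
  have hcM : c ∈ M := normalizer_le_of_sigma hqM hRsyl (centralizer_le_normalizer' R hc)
  exact hg (hgmc ▸ M.mul_mem hm hcM)

/-- **BG 11.3**: `M_σ` is nilpotent for an exceptional maximal subgroup `M`. -/
theorem exc_nilpotent (hG : IsMinSimpleOddOrder G) (h1403 : H1403 G) (h1404 : H1404 G)
    (h1410 : ∀ (p : ℕ) [Fact p.Prime] (H : Subgroup G), H ≠ ⊤ → PLengthLE p 1 H)
    {M : Subgroup G} (hM : IsCoatom M) {p : ℕ} [hp : Fact p.Prime] {A A₀ : Subgroup G}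
    (hps : p ∉ sigma M) (hAM : A ≤ M) (hA : Cfsg.IsElementaryAbelian p A)
    (hA2 : Nat.card A = p ^ 2) (hA₀A : A₀ ≤ A) (hA₀ : Nat.card A₀ = p)
    (hNA₀ : Subgroup.normalizer (A₀ : Set G) ≤ M) :
    Group.IsNilpotent (sigmaCore M) := by
  have hpp : p.Prime := hp.out
  have hAp : IsPGroup p A := Cfsg.Agent.Lib.Helper20.BG.isPGroup_of_ea hA
  obtain ⟨P, hP, hAP⟩ := exists_isSylowIn_ge hAp hAM
  obtain ⟨S, hS⟩ := hP.exists_sylow
  have hNP : ¬ Subgroup.normalizer (P : Set G) ≤ M := by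
    intro h
    apply hps
    refine ⟨hpp, ?_, S, ?_⟩
    · have h1 : p ∣ Nat.card A := by rw [hA2]; exact dvd_pow_self p two_ne_zero
      exact h1.trans (Subgroup.card_dvd_of_le hAM)
    · rw [hS]; exact h
  obtain ⟨g, hgN, hgM⟩ := SetLike.not_le_iff_exists.mp hNP
  have hPg : P.map (MulAut.conj g).toMonoidHom = P := map_conj_eq_of_mem_normalizer hgN
  have hAg : A ≤ M.map (MulAut.conj g).toMonoidHom := by
    calc A ≤ P := hAP
      _ = P.map (MulAut.conj g).toMonoidHom := hPg.symm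
      _ ≤ M.map (MulAut.conj g).toMonoidHom := Subgroup.map_mono hP.1
  have hbot := exc_inf_conj_eq_bot hG h1403 h1404 h1410 hM hps hAM hA hA2 hA₀A hNA₀ hgM hAg
  obtain ⟨a₀, ha₀, ha₀1⟩ : ∃ a₀ ∈ A₀, a₀ ≠ 1 := by
    by_contra hcon
    push Not at hcon
    exact ne_bot_of_card_prime hA₀ ((Subgroup.eq_bot_iff_forall _).mpr hcon)
  have hZ : Subgroup.zpowers a₀ = A₀ := by
    apply Subgroup.eq_of_le_of_card_ge (by rw [Subgroup.zpowers_le]; exact ha₀)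
    rw [Nat.card_zpowers, hA₀, orderOf_eq_prime (hA.2 a₀ (hA₀A ha₀)) ha₀1]
  have hy : g * a₀ * g⁻¹ ∈ M := by
    have h1 : g * a₀ * g⁻¹ ∈ P.map (MulAut.conj g).toMonoidHom :=
      conj_mem_map_conj g (hAP (hA₀A ha₀))
    rw [hPg] at h1
    exact hP.1 h1
  apply Cfsg.Agent.Lib.Helper34.BG.isNilpotent_of_fpf_elt (sigmaCore M) (g * a₀ * g⁻¹)
    (Cfsg.Agent.Lib.Helper67.BG.sigmaCore_normalizer M hy) hpp
  · rw [conj_pow, hA.2 a₀ (hA₀A ha₀), mul_one, mul_inv_cancel]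
  · intro z hz hcomm
    have h1 : g⁻¹ * z * g ∈ Subgroup.centralizer ({a₀} : Set G) := by
      rw [Subgroup.mem_centralizer_iff]
      intro y hy'
      rw [Set.mem_singleton_iff] at hy'
      rw [hy']
      calc a₀ * (g⁻¹ * z * g) = g⁻¹ * ((g * a₀ * g⁻¹) * z) * g := by group
        _ = g⁻¹ * (z * (g * a₀ * g⁻¹)) * g := by rw [hcomm]
        _ = g⁻¹ * z * g * a₀ := by group
    have h5 := centralizer_singleton_le_normalizer_zpowers a₀ h1
    rw [hZ] at h5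
    have h2 : g⁻¹ * z * g ∈ M := hNA₀ h5
    have h3 : z ∈ M.map (MulAut.conj g).toMonoidHom := mem_map_conj_iff.mpr h2
    have h4 : z ∈ sigmaCore M ⊓ M.map (MulAut.conj g).toMonoidHom := ⟨hz, h3⟩
    rw [hbot, Subgroup.mem_bot] at h4
    exact h4

/-- The hypothesis `HExcUniq G` (BG 11.4) of `s1416_core`, from S1403, S1404, S1410. -/
theorem hExcUniq_of (hG : IsMinSimpleOddOrder G) (h1403 : H1403 G) (h1404 : H1404 G)
    (h1410 : ∀ (p : ℕ) [Fact p.Prime] (H : Subgroup G), H ≠ ⊤ → PLengthLE p 1 H) :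
    HExcUniq G := by
  intro H hH p _ A X hps hAH hA hA2 hXA hX hNX L hL hAL hT
  exact exc_uniq hG h1403 h1404 h1410 hH hps hAH hA hA2 hXA hNX
    (exc_nilpotent hG h1403 h1404 h1410 hH hps hAH hA hA2 hXA hX hNX) L hL hAL hT

end Cfsg.Agent.Lib.Helper29.BG
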