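import Mathlib
import Cfsg.Statements.S1350
import Cfsg.Statements.S1403
import Cfsg.Statements.S1404
import Cfsg.Statements.S1405
import Cfsg.Statements.S1408
import Cfsg.Statements.S1409
import Cfsg.Statements.S1410
import Cfsg.Statements.S1412
import Cfsg.Statements.S1415
import Cfsg.Statements.S1416
import Cfsg.Agent.Lib.Helper29.BG.Exc113
import Cfsg.Agent.Lib.Helper15.BG.Exc117Final
import Cfsg.Agent.Lib.Helper98.BG.T4
import Cfsg.Agent.Lib.Helper57.BG.PkgB

/-!
Bender–Glauberman Proposition 12.4 (statement S1416) from the statements S1350, S1403, S1404,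
S1405, S1408, S1409, S1410, S1412, S1415 of the same group (only their types are used).
-/

set_option autoImplicit false

namespace Cfsg.Agent.Lib.Helper29.BG

open Cfsg

/-- BG 11.7 for every exceptional maximal subgroup (`HExcNormal G`), from the statements. -/
theorem hExcNormal_of_statements {G : Type*} [Group G] [Finite G] (hG : IsMinSimpleOddOrder G)
    (h1350 : type_of% (@Cfsg.CfsgFrozen.S1350 G _ _ hG))
    (h1403 : type_of% (@Cfsg.CfsgFrozen.S1403 G _ _ hG))
    (h1404 : type_of% (@Cfsg.CfsgFrozen.S1404 G _ _ hG))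
    (h1405 : type_of% (@Cfsg.CfsgFrozen.S1405 G _ _ hG))
    (h1408 : type_of% (@Cfsg.CfsgFrozen.S1408 G _ _ hG))
    (h1409 : type_of% (@Cfsg.CfsgFrozen.S1409 G _ _ hG))
    (h1410 : type_of% (@Cfsg.CfsgFrozen.S1410 G _ _ hG))
    (h1412 : type_of% (@Cfsg.CfsgFrozen.S1412 G _ _ hG))
    (h1415 : type_of% (@Cfsg.CfsgFrozen.S1415 G _ _ hG)) : HExcNormal G := by
  apply Cfsg.Agent.Lib.Helper15.BG.exc_normal_of_t4 hG h1350 h1403 h1404 h1405 h1408 h1409 h1410
    h1412 h1415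
  · intro M hM q _ hq Y hYM hY1 hYq hYn
    exact Cfsg.Agent.Lib.Helper98.BG.t4 hG h1409 M hM
      (fun q hq => Cfsg.Agent.Lib.Helper78.BG.alpha_subset_sigma hG h1403 M hM hq)
      (fun q _ B B₀ hq hBM hBe hB2 hB₀ hB₀c hN P =>
        ((Cfsg.Agent.Lib.Helper15.BG.exc_pieces hG h1350 h1404 h1405 h1408 h1409 h1410 h1412 M hM
          q B B₀ hq hBM hBe hB2 hB₀ hB₀c hN).1 P).1) q hq Y hYM hY1 hYq hYn
  · intro X N R a hXs hXo hNX hRX haX p q hp _ hpq hao haN hRN haR hR hqN hpN hfpf hY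
    exact Cfsg.Agent.Lib.Helper57.BG.fpf_centralizes_pgroup X N R a hXs hXo hNX hRX haX hp hpq hao
      haN hRN haR hR hqN hpN hfpf hY

/-- Statement S1416 from the earlier statements of the chain. -/
theorem s1416_of_statements {G : Type*} [Group G] [Finite G] (hG : IsMinSimpleOddOrder G)
    (h1350 : type_of% (@Cfsg.CfsgFrozen.S1350 G _ _ hG))
    (h1403 : type_of% (@Cfsg.CfsgFrozen.S1403 G _ _ hG))
    (h1404 : type_of% (@Cfsg.CfsgFrozen.S1404 G _ _ hG))
    (h1405 : type_of% (@Cfsg.CfsgFrozen.S1405 G _ _ hG))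
    (h1408 : type_of% (@Cfsg.CfsgFrozen.S1408 G _ _ hG))
    (h1409 : type_of% (@Cfsg.CfsgFrozen.S1409 G _ _ hG))
    (h1410 : type_of% (@Cfsg.CfsgFrozen.S1410 G _ _ hG))
    (h1412 : type_of% (@Cfsg.CfsgFrozen.S1412 G _ _ hG))
    (h1415 : type_of% (@Cfsg.CfsgFrozen.S1415 G _ _ hG)) :
    type_of% (@Cfsg.CfsgFrozen.S1416 G _ _ hG) := by
  intro M hM p _ A hA
  exact s1416_core hG h1403 h1404 (fun p _ H hH => h1410 p H hH)
    (hExcUniq_of hG h1403 h1404 (fun p _ H hH => h1410 p H hH))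
    (hExcNormal_of_statements hG h1350 h1403 h1404 h1405 h1408 h1409 h1410 h1412 h1415)
    M hM p A hA

end Cfsg.Agent.Lib.Helper29.BG
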