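import Mathlib
import Cfsg.Prelude.Def_OddOrderLocal
import Cfsg.Statements.S1411
import Cfsg.Statements.S1414
import Cfsg.Agent.Lib.Helper46.Amalgam
import Cfsg.Agent.Lib.Helper35.BG.Basic
import Cfsg.Agent.Lib.Helper35.BG.Hall
import Cfsg.Agent.Lib.Helper24.BG.S1431Util
import Cfsg.Agent.Lib.Helper74.BG.Tools
import Cfsg.Agent.Lib.Helper98.BG.T5
import Cfsg.Agent.Lib.Helper27.BG.SigmaBasic
import Cfsg.Agent.Lib.Helper46.BG.S1414Core
import Cfsg.Agent.Lib.Helper23.Transitivity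
import Cfsg.Agent.Lib.Helper91.Coprime2

/-!
# S1428 project (helper95), package K: Lemma K and Corollary S

`S` a Sylow `t`-subgroup of `G` with `N_G(S) ≤ M`, `M` maximal, `t ∉ β(M)`.  Then
`M = M_β N_G(S)` (Lemma K; more precisely `M = (M' ∩ M_β) N_G(S)` and `(M' ∩ M_β) S ⊴ M`).
Consequences (Corollary S): for a prime `u ∉ β(M)`, `u ∤ |M : N_G(S)|`, so Sylow `u`-subgroups of
`N_G(S)` are Sylow in `M`; and `u ∣ |M'|` forces `u ∣ |N_G(S)'|`.

Black boxes: the frozen statements S1411 and S1414, as hypotheses.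
-/

set_option autoImplicit false

namespace Cfsg.Agent.Lib.Helper29.BG

open Cfsg Subgroup
open Cfsg.Agent.Lib.Helper46 (IsSylowIn)
open scoped commutatorElement

universe u

section Pure

variable {G : Type u} [Group G]

theorem mem_normalizer_iff_K {H : Subgroup G} {g : G} :
    g ∈ normalizer (H : Set G) ↔ H.map (MulAut.conj g).toMonoidHom = H :=
  Subgroup.mem_normalizer_iff_map_conj_eq

theorem mem_normalizer_sup_K {H K : Subgroup G} {g : G}
    (hH : g ∈ normalizer (H : Set G)) (hK : g ∈ normalizer (K : Set G)) :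
    g ∈ normalizer ((H ⊔ K : Subgroup G) : Set G) := by
  rw [mem_normalizer_iff_K] at hH hK ⊢
  rw [Subgroup.map_sup, hH, hK]

theorem mem_normalizer_inf_K {H K : Subgroup G} {g : G}
    (hH : g ∈ normalizer (H : Set G)) (hK : g ∈ normalizer (K : Set G)) :
    g ∈ normalizer ((H ⊓ K : Subgroup G) : Set G) := by
  rw [mem_normalizer_iff_K] at hH hK ⊢
  rw [Subgroup.map_inf _ _ _ (MulAut.conj g).injective, hH, hK]

theorem commutator_self_le (M : Subgroup G) : ⁅M, M⁆ ≤ M := by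
  rw [Subgroup.commutator_le]
  intro a ha b hb
  rw [commutatorElement_def]
  exact M.mul_mem (M.mul_mem (M.mul_mem ha hb) (M.inv_mem ha)) (M.inv_mem hb)

theorem le_normalizer_commutator_self (M : Subgroup G) :
    M ≤ normalizer ((⁅M, M⁆ : Subgroup G) : Set G) := by
  intro m hm
  rw [mem_normalizer_iff_K, Subgroup.map_commutator,
    Cfsg.Agent.Lib.Helper46.map_conj_eq_of_mem hm]

/-- The pure group theory behind Lemma K. -/
theorem lemK_pure [Finite G] {t : ℕ} [Fact t.Prime] {M D B H0 S : Subgroup G}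
    (hDM : D ≤ M) (hBD : B ≤ D) (hMB : M ≤ normalizer (B : Set G))
    (hH0D : H0 ≤ D) (hnil : Group.IsNilpotent H0) (hsup : D ≤ B ⊔ H0)
    (ht : ¬ t ∣ H0.relIndex D) (hMD : M ≤ normalizer (D : Set G))
    (hS : IsSylowIn t S D) :
    M ≤ normalizer ((B ⊔ S : Subgroup G) : Set G) ∧
      ∀ m ∈ M, ∃ b ∈ B, ∃ s ∈ S, (b * s)⁻¹ * m ∈ normalizer (S : Set G) := by
  obtain ⟨T0, hT0, -⟩ := Cfsg.Agent.Lib.Helper35.BG.exists_isSylowIn_ge (p := t)
    (Q := (⊥ : Subgroup G)) (H := H0) IsPGroup.of_bot bot_le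
  have hT0p : IsPGroup t T0 := Cfsg.Agent.Lib.Helper35.BG.sylIn_isPGroup hT0
  have hH0T0 : H0 ≤ normalizer (T0 : Set G) :=
    Cfsg.Agent.Lib.Helper74.BG.le_normalizer_of_isSylowIn_of_nilpotent hnil hT0
  have hT0D : IsSylowIn t T0 D := by
    apply Cfsg.Agent.Lib.Helper24.BG31.sylIn_of_not_dvd_relIndex (hT0.1.trans hH0D) hT0p
    rw [← Subgroup.relIndex_mul_relIndex T0 H0 D hT0.1 hH0D]
    intro h
    rcases (Nat.Prime.dvd_mul Fact.out).mp h with h | h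
    · exact Cfsg.Agent.Lib.Helper24.BG31.sylIn_not_dvd_relIndex hT0 h
    · exact ht h
  have hDW : D ≤ normalizer ((B ⊔ T0 : Subgroup G) : Set G) := by
    refine hsup.trans (sup_le (le_sup_left.trans le_normalizer) ?_)
    intro h hh
    exact mem_normalizer_sup_K (hMB (hDM (hH0D hh))) (hH0T0 hh)
  -- every Sylow `t`-subgroup `S'` of `D` satisfies `B ⊔ S' = B ⊔ T0`
  have key : ∀ S' : Subgroup G, IsSylowIn t S' D → B ⊔ S' = B ⊔ T0 := by
    intro S' hS'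
    obtain ⟨d, hd, hSd⟩ := hT0D.exists_conj hS'
    have h1 := mem_normalizer_iff_K.mp (hDW hd)
    rw [Subgroup.map_sup, mem_normalizer_iff_K.mp (hMB (hDM hd)), ← hSd] at h1
    exact h1
  have hWS : B ⊔ S = B ⊔ T0 := key S hS
  have hMW : M ≤ normalizer ((B ⊔ S : Subgroup G) : Set G) := by
    intro m hm
    rw [mem_normalizer_iff_K, Subgroup.map_sup,
      mem_normalizer_iff_K.mp (hMB hm)]
    have h2 : IsSylowIn t (S.map (MulAut.conj m).toMonoidHom) D := by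
      have h3 := hS.map (MulAut.conj m)
      rwa [mem_normalizer_iff_K.mp (hMD hm)] at h3
    rw [key _ h2, hWS]
  refine ⟨hMW, ?_⟩
  intro m hm
  have hSW : IsSylowIn t S (B ⊔ S) :=
    Cfsg.Agent.Lib.Helper35.BG.sylIn_mono hS le_sup_right (sup_le hBD hS.1)
  obtain ⟨k, hk, hk2⟩ := Cfsg.Agent.Lib.Helper74.BG.frattini_arg hSW (hMW hm)
  have hSnB : S ≤ normalizer (B : Set G) := hS.1.trans (hDM.trans hMB)
  obtain ⟨b, hb, s, hs, rfl⟩ := Cfsg.Agent.Lib.Helper98.BG.exists_mul_of_mem_sup_norm hSnB hk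
  exact ⟨b, hb, s, hs, hk2⟩

/-- If every element of `M` is a product `b * n` with `b ∈ B` (`B` normalized by `M`) and
`n ∈ N ≤ M`, then `M' ≤ B N'`. -/
theorem commutator_le_sup_of_forall_mul {M B N : Subgroup G}
    (hMB : M ≤ normalizer (B : Set G)) (hNM : N ≤ M)
    (h : ∀ m ∈ M, ∃ b ∈ B, ∃ n ∈ N, m = b * n) : ⁅M, M⁆ ≤ B ⊔ ⁅N, N⁆ := by
  rw [Subgroup.commutator_le]
  intro m₁ hm₁ m₂ hm₂
  obtain ⟨b₁, hb₁, n₁, hn₁, rfl⟩ := h m₁ hm₁
  obtain ⟨b₂, hb₂, n₂, hn₂, rfl⟩ := h m₂ hm₂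
  have conj : ∀ x ∈ M, ∀ b ∈ B, x * b * x⁻¹ ∈ B := fun x hx b hb =>
    (Subgroup.mem_normalizer_iff.mp (hMB hx) b).mp hb
  have hc : ⁅n₁, n₂⁆ ∈ ⁅N, N⁆ := Subgroup.commutator_mem_commutator hn₁ hn₂
  have hcM : ⁅n₁, n₂⁆ ∈ M := commutator_self_le M (Subgroup.commutator_mono hNM hNM hc)
  have e : ⁅b₁ * n₁, b₂ * n₂⁆ =
      (b₁ * (n₁ * b₂ * n₁⁻¹) * ((n₁ * n₂ * n₁⁻¹) * b₁⁻¹ * (n₁ * n₂ * n₁⁻¹)⁻¹) *
        (⁅n₁, n₂⁆ * b₂⁻¹ * ⁅n₁, n₂⁆⁻¹)) * ⁅n₁, n₂⁆ := by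
    simp only [commutatorElement_def]; group
  rw [e]
  refine Subgroup.mul_mem_sup (B.mul_mem (B.mul_mem (B.mul_mem hb₁ ?_) ?_) ?_) hc
  · exact conj n₁ (hNM hn₁) b₂ hb₂
  · exact conj _ (M.mul_mem (M.mul_mem (hNM hn₁) (hNM hn₂)) (M.inv_mem (hNM hn₁))) _
      (B.inv_mem hb₁)
  · exact conj _ hcM _ (B.inv_mem hb₂)

end Pure

section BG

variable {G : Type u} [Group G] [Finite G]

/-- A Sylow subgroup of `G` is a Sylow subgroup of every subgroup containing it. -/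
theorem sylIn_of_sylow_le {t : ℕ} [Fact t.Prime] (S : Sylow t G) {D : Subgroup G}
    (h : (S : Subgroup G) ≤ D) : IsSylowIn t (S : Subgroup G) D := by
  have h1 : IsSylowIn t (S : Subgroup G) ⊤ :=
    ⟨le_top, by rw [Subgroup.card_top]; exact S.card_eq_multiplicity⟩
  exact Cfsg.Agent.Lib.Helper35.BG.sylIn_mono h1 h le_top

/-- Lemma K, technical form: `S ≤ M'`, `(M' ∩ M_β) S ⊴ M`, and the Frattini factorisation. -/
theorem lemK_aux (hG : IsMinSimpleOddOrder G)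
    (h1411 : type_of% (@Cfsg.CfsgFrozen.S1411 G _ _ hG))
    (h1414 : type_of% (@Cfsg.CfsgFrozen.S1414 G _ _ hG))
    (M : Subgroup G) (hM : IsCoatom M) (t : ℕ) [Fact t.Prime] (S : Sylow t G)
    (hN : normalizer ((S : Subgroup G) : Set G) ≤ M) (ht : t ∉ beta M) :
    (S : Subgroup G) ≤ ⁅M, M⁆ ∧
    M ≤ normalizer (((⁅M, M⁆ ⊓ piCoreOf (beta M) M) ⊔ (S : Subgroup G) : Subgroup G) : Set G) ∧
    ∀ m ∈ M, ∃ b ∈ ⁅M, M⁆ ⊓ piCoreOf (beta M) M, ∃ s ∈ (S : Subgroup G),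
      (b * s)⁻¹ * m ∈ normalizer ((S : Subgroup G) : Set G) := by
  have htp : t.Prime := Fact.out
  obtain ⟨V, hV⟩ := Cfsg.Agent.Lib.Helper46.BG.exists_isComplIn_normalizer S
  have hSD : (S : Subgroup G) ≤ ⁅M, M⁆ :=
    ((h1411 t S V hV).2).trans (Subgroup.commutator_mono hN hN)
  obtain ⟨hHallM, -, ⟨H0, hH0, hnil⟩, -, -⟩ := h1414 M hM
  have hDM : ⁅M, M⁆ ≤ M := commutator_self_le M
  have hMD : M ≤ normalizer ((⁅M, M⁆ : Subgroup G) : Set G) := le_normalizer_commutator_self M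
  have hMMb : M ≤ normalizer ((piCoreOf (beta M) M : Subgroup G) : Set G) :=
    Cfsg.Agent.Lib.Helper27.BG.le_normalizer_piCoreOf (beta M) M
  have hMB : M ≤ normalizer ((⁅M, M⁆ ⊓ piCoreOf (beta M) M : Subgroup G) : Set G) :=
    fun m hm => mem_normalizer_inf_K (hMD hm) (hMMb hm)
  have hsup : ⁅M, M⁆ ≤ (⁅M, M⁆ ⊓ piCoreOf (beta M) M) ⊔ H0 := by
    rw [← Subgroup.relIndex_eq_one]
    by_contra hne
    obtain ⟨q, hq, hqd⟩ := Nat.exists_prime_and_dvd hne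
    have h1 : q ∣ (⁅M, M⁆ ⊓ piCoreOf (beta M) M).relIndex ⁅M, M⁆ :=
      hqd.trans (Subgroup.relIndex_dvd_of_le_left _ le_sup_left)
    have h2 : q ∣ H0.relIndex ⁅M, M⁆ :=
      hqd.trans (Subgroup.relIndex_dvd_of_le_left _ le_sup_right)
    have hqβ : q ∈ beta M := by
      by_contra hqβ
      exact hH0.2.2 q hq ⟨hq, hqβ⟩ h2
    apply hHallM.2.2 q hq hqβ
    rw [Subgroup.inf_relIndex_left] at h1
    have : ((piCoreOf (beta M) M).subgroupOf M).Normal :=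
      Subgroup.normal_subgroupOf_of_le_normalizer hMMb
    have h3 : ((piCoreOf (beta M) M).subgroupOf M).relIndex ((⁅M, M⁆ : Subgroup G).subgroupOf M) ∣
        ((piCoreOf (beta M) M).subgroupOf M).index := Subgroup.relIndex_dvd_index_of_normal _ _
    rw [Subgroup.relIndex_subgroupOf hDM] at h3
    exact h1.trans h3
  have ht' : ¬ t ∣ H0.relIndex ⁅M, M⁆ := hH0.2.2 t htp ⟨htp, ht⟩
  have hS : IsSylowIn t (S : Subgroup G) ⁅M, M⁆ := sylIn_of_sylow_le S hSD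
  obtain ⟨h1, h2⟩ := lemK_pure hDM inf_le_left hMB hH0.1 hnil hsup ht' hMD hS
  exact ⟨hSD, h1, h2⟩

/-- Every element of `M` is `b * n` with `b ∈ M' ∩ M_β` and `n ∈ N_G(S)`. -/
theorem lemK_forall_mul (hG : IsMinSimpleOddOrder G)
    (h1411 : type_of% (@Cfsg.CfsgFrozen.S1411 G _ _ hG))
    (h1414 : type_of% (@Cfsg.CfsgFrozen.S1414 G _ _ hG))
    (M : Subgroup G) (hM : IsCoatom M) (t : ℕ) [Fact t.Prime] (S : Sylow t G)
    (hN : normalizer ((S : Subgroup G) : Set G) ≤ M) (ht : t ∉ beta M) :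
    ∀ m ∈ M, ∃ b ∈ ⁅M, M⁆ ⊓ piCoreOf (beta M) M,
      ∃ n ∈ normalizer ((S : Subgroup G) : Set G), m = b * n := by
  intro m hm
  obtain ⟨b, hb, s, hs, h⟩ := (lemK_aux hG h1411 h1414 M hM t S hN ht).2.2 m hm
  refine ⟨b, hb, s * ((b * s)⁻¹ * m), Subgroup.mul_mem _ (Subgroup.le_normalizer hs) h, ?_⟩
  group

/-- **Lemma K**, sharp form: `M = (M' ∩ M_β) N_G(S)`. -/
theorem lemK' (hG : IsMinSimpleOddOrder G)
    (h1411 : type_of% (@Cfsg.CfsgFrozen.S1411 G _ _ hG))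
    (h1414 : type_of% (@Cfsg.CfsgFrozen.S1414 G _ _ hG))
    (M : Subgroup G) (hM : IsCoatom M) (t : ℕ) [Fact t.Prime] (S : Sylow t G)
    (hN : normalizer ((S : Subgroup G) : Set G) ≤ M) (ht : t ∉ beta M) :
    M = (⁅M, M⁆ ⊓ piCoreOf (beta M) M) ⊔ normalizer ((S : Subgroup G) : Set G) := by
  apply le_antisymm
  · intro m hm
    obtain ⟨b, hb, n, hn, rfl⟩ := lemK_forall_mul hG h1411 h1414 M hM t S hN ht m hm
    exact Subgroup.mul_mem_sup hb hn
  · exact sup_le (inf_le_left.trans (commutator_self_le M)) hN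

/-- **Lemma K**: `M = M_β N_G(S)`. -/
theorem lemK (hG : IsMinSimpleOddOrder G)
    (h1411 : type_of% (@Cfsg.CfsgFrozen.S1411 G _ _ hG))
    (h1414 : type_of% (@Cfsg.CfsgFrozen.S1414 G _ _ hG))
    (M : Subgroup G) (hM : IsCoatom M) (t : ℕ) [Fact t.Prime] (S : Sylow t G)
    (hN : normalizer ((S : Subgroup G) : Set G) ≤ M) (ht : t ∉ beta M) :
    M = piCoreOf (beta M) M ⊔ normalizer ((S : Subgroup G) : Set G) := by
  apply le_antisymm
  · intro m hm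
    obtain ⟨b, hb, n, hn, rfl⟩ := lemK_forall_mul hG h1411 h1414 M hM t S hN ht m hm
    exact Subgroup.mul_mem_sup hb.2 hn
  · exact sup_le (Cfsg.Agent.Lib.Helper27.BG.piCoreOf_le (beta M) M) hN

/-- **Corollary S (1)**: a prime `u ∉ β(M)` does not divide `|M : N_G(S)|`. -/
theorem corS_not_dvd (hG : IsMinSimpleOddOrder G)
    (h1411 : type_of% (@Cfsg.CfsgFrozen.S1411 G _ _ hG))
    (h1414 : type_of% (@Cfsg.CfsgFrozen.S1414 G _ _ hG))
    (M : Subgroup G) (hM : IsCoatom M) (t : ℕ) [Fact t.Prime] (S : Sylow t G)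
    (hN : normalizer ((S : Subgroup G) : Set G) ≤ M) (ht : t ∉ beta M)
    (u : ℕ) (hu : u.Prime) (huβ : u ∉ beta M) :
    ¬ u ∣ (normalizer ((S : Subgroup G) : Set G)).relIndex M := by
  intro hdvd
  have hMMb : M ≤ normalizer ((piCoreOf (beta M) M : Subgroup G) : Set G) :=
    Cfsg.Agent.Lib.Helper27.BG.le_normalizer_piCoreOf (beta M) M
  have h1 : (normalizer ((S : Subgroup G) : Set G)).relIndex M ∣
      Nat.card (piCoreOf (beta M) M) :=
    Cfsg.Agent.Lib.Helper74.BG.relIndex_dvd_card_of_forall_mul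
      (Cfsg.Agent.Lib.Helper27.BG.piCoreOf_le (beta M) M) hMMb (fun m hm => by
        obtain ⟨b, hb, n, hn, rfl⟩ := lemK_forall_mul hG h1411 h1414 M hM t S hN ht m hm
        exact ⟨b, hb.2, n, hn, rfl⟩)
  exact huβ (Cfsg.Agent.Lib.Helper23.piCoreOf_isPi (beta M) M u hu (hdvd.trans h1))

/-- **Corollary S (1)**, Sylow form: for `u ∉ β(M)` a Sylow `u`-subgroup of `N_G(S)` is a Sylow
`u`-subgroup of `M`. -/
theorem corS_sylow (hG : IsMinSimpleOddOrder G)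
    (h1411 : type_of% (@Cfsg.CfsgFrozen.S1411 G _ _ hG))
    (h1414 : type_of% (@Cfsg.CfsgFrozen.S1414 G _ _ hG))
    (M : Subgroup G) (hM : IsCoatom M) (t : ℕ) [Fact t.Prime] (S : Sylow t G)
    (hN : normalizer ((S : Subgroup G) : Set G) ≤ M) (ht : t ∉ beta M)
    (u : ℕ) [Fact u.Prime] (huβ : u ∉ beta M) {U : Subgroup G}
    (hU : IsSylowIn u U (normalizer ((S : Subgroup G) : Set G))) : IsSylowIn u U M := by
  have hu : u.Prime := Fact.out
  apply Cfsg.Agent.Lib.Helper24.BG31.sylIn_of_not_dvd_relIndex (hU.1.trans hN)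
    (Cfsg.Agent.Lib.Helper35.BG.sylIn_isPGroup hU)
  rw [← Subgroup.relIndex_mul_relIndex U _ M hU.1 hN]
  intro h
  rcases (Nat.Prime.dvd_mul hu).mp h with h | h
  · exact Cfsg.Agent.Lib.Helper24.BG31.sylIn_not_dvd_relIndex hU h
  · exact corS_not_dvd hG h1411 h1414 M hM t S hN ht u hu huβ h

/-- `M' ≤ M_β N_G(S)'`. -/
theorem lemK_commutator_le (hG : IsMinSimpleOddOrder G)
    (h1411 : type_of% (@Cfsg.CfsgFrozen.S1411 G _ _ hG))
    (h1414 : type_of% (@Cfsg.CfsgFrozen.S1414 G _ _ hG))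
    (M : Subgroup G) (hM : IsCoatom M) (t : ℕ) [Fact t.Prime] (S : Sylow t G)
    (hN : normalizer ((S : Subgroup G) : Set G) ≤ M) (ht : t ∉ beta M) :
    ⁅M, M⁆ ≤ piCoreOf (beta M) M ⊔
      ⁅normalizer ((S : Subgroup G) : Set G), normalizer ((S : Subgroup G) : Set G)⁆ := by
  apply commutator_le_sup_of_forall_mul
    (Cfsg.Agent.Lib.Helper27.BG.le_normalizer_piCoreOf (beta M) M) hN
  intro m hm
  obtain ⟨b, hb, n, hn, rfl⟩ := lemK_forall_mul hG h1411 h1414 M hM t S hN ht m hm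
  exact ⟨b, hb.2, n, hn, rfl⟩

/-- **Corollary S (2)**: a prime `u ∉ β(M)` dividing `|M'|` divides `|N_G(S)'|`. -/
theorem corS_dvd_commutator (hG : IsMinSimpleOddOrder G)
    (h1411 : type_of% (@Cfsg.CfsgFrozen.S1411 G _ _ hG))
    (h1414 : type_of% (@Cfsg.CfsgFrozen.S1414 G _ _ hG))
    (M : Subgroup G) (hM : IsCoatom M) (t : ℕ) [Fact t.Prime] (S : Sylow t G)
    (hN : normalizer ((S : Subgroup G) : Set G) ≤ M) (ht : t ∉ beta M)
    (u : ℕ) (hu : u.Prime) (huβ : u ∉ beta M) (hdvd : u ∣ Nat.card ↥⁅M, M⁆) :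
    u ∣ Nat.card ↥⁅normalizer ((S : Subgroup G) : Set G),
      normalizer ((S : Subgroup G) : Set G)⁆ := by
  have h1 := lemK_commutator_le hG h1411 h1414 M hM t S hN ht
  have hMMb : M ≤ normalizer ((piCoreOf (beta M) M : Subgroup G) : Set G) :=
    Cfsg.Agent.Lib.Helper27.BG.le_normalizer_piCoreOf (beta M) M
  have hNN : ⁅normalizer ((S : Subgroup G) : Set G), normalizer ((S : Subgroup G) : Set G)⁆ ≤ M :=
    (Subgroup.commutator_mono hN hN).trans (commutator_self_le M)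
  have h2 : Nat.card ↥(piCoreOf (beta M) M ⊔
      ⁅normalizer ((S : Subgroup G) : Set G), normalizer ((S : Subgroup G) : Set G)⁆) ∣
      Nat.card (piCoreOf (beta M) M) * Nat.card ↥⁅normalizer ((S : Subgroup G) : Set G),
        normalizer ((S : Subgroup G) : Set G)⁆ :=
    Dvd.intro _ (Cfsg.Agent.Lib.Helper91.card_sup_mul_card_inf_of_le_normalizer _ _
      (hNN.trans hMMb))
  have h3 := (hdvd.trans (Subgroup.card_dvd_of_le h1)).trans h2
  rcases (Nat.Prime.dvd_mul hu).mp h3 with h | h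
  · exact absurd (Cfsg.Agent.Lib.Helper23.piCoreOf_isPi (beta M) M u hu h) huβ
  · exact h

/-- **Corollary S (2)**, two-subgroup form: `N_G(S) ≤ M ∩ L`, `t ∉ β(L)`, `u ∉ β(L)`,
`u ∣ |L'|` imply `u ∣ |M'|`. -/
theorem corS_dvd_commutator_of (hG : IsMinSimpleOddOrder G)
    (h1411 : type_of% (@Cfsg.CfsgFrozen.S1411 G _ _ hG))
    (h1414 : type_of% (@Cfsg.CfsgFrozen.S1414 G _ _ hG))
    (M L : Subgroup G) (hL : IsCoatom L) (t : ℕ) [Fact t.Prime] (S : Sylow t G)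
    (hNM : normalizer ((S : Subgroup G) : Set G) ≤ M)
    (hNL : normalizer ((S : Subgroup G) : Set G) ≤ L) (ht : t ∉ beta L)
    (u : ℕ) (hu : u.Prime) (huβ : u ∉ beta L) (hdvd : u ∣ Nat.card ↥⁅L, L⁆) :
    u ∣ Nat.card ↥⁅M, M⁆ :=
  (corS_dvd_commutator hG h1411 h1414 L hL t S hNL ht u hu huβ hdvd).trans
    (Subgroup.card_dvd_of_le (Subgroup.commutator_mono hNM hNM))

end BG

end Cfsg.Agent.Lib.Helper29.BG
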