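import Mathlib
import Cfsg.Prelude.Def_OddOrderLocal
import Cfsg.Agent.Lib.Helper29.BG.Exc113
import Cfsg.Agent.Lib.Helper59.BG.S1417Glue

/-!
Bender–Glauberman Section 11, glue: 11.1(b) and 11.2(b) in the shapes used by
`Helper76.BG.sec11_abelian` (11.5/11.6) and `Helper59.BG.Sec11A`, from S1403, S1404, S1410.
-/

set_option autoImplicit false

namespace Cfsg.Agent.Lib.Helper29.BG

open Cfsg Cfsg.Agent.Lib.Helper35.BG Cfsg.Agent.Lib.Helper46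

variable {G : Type*} [Group G] [Finite G]

/-- **BG 11.2(b)**. -/
theorem exc_11_2b (hG : IsMinSimpleOddOrder G) (h1403 : H1403 G) (h1404 : H1404 G)
    (h1410 : ∀ (p : ℕ) [Fact p.Prime] (H : Subgroup G), H ≠ ⊤ → PLengthLE p 1 H)
    {M : Subgroup G} (hM : IsCoatom M) {p : ℕ} [hp : Fact p.Prime] {A A₀ : Subgroup G}
    (hps : p ∉ sigma M) (hAM : A ≤ M) (hA : Cfsg.IsElementaryAbelian p A)
    (hA2 : Nat.card A = p ^ 2) (hA₀A : A₀ ≤ A)
    (hNA₀ : Subgroup.normalizer (A₀ : Set G) ≤ M) :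
    ∀ g : G, g ∉ M → A ≤ M.map (MulAut.conj g).toMonoidHom →
      sigmaCore M ⊓
        Subgroup.centralizer ((A₀.map (MulAut.conj g).toMonoidHom : Subgroup G) : Set G) = ⊥ := by
  intro g hg hAg
  have hbot := exc_inf_conj_eq_bot hG h1403 h1404 h1410 hM hps hAM hA hA2 hA₀A hNA₀ hg hAg
  rw [eq_bot_iff, ← hbot]
  refine le_inf inf_le_left (inf_le_right.trans ?_)
  calc Subgroup.centralizer ((A₀.map (MulAut.conj g).toMonoidHom : Subgroup G) : Set G)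
      ≤ Subgroup.normalizer ((A₀.map (MulAut.conj g).toMonoidHom : Subgroup G) : Set G) :=
        centralizer_le_normalizer' _
    _ = (Subgroup.normalizer (A₀ : Set G)).map (MulAut.conj g).toMonoidHom :=
        normalizer_map_conj A₀ g
    _ ≤ M.map (MulAut.conj g).toMonoidHom := Subgroup.map_mono hNA₀

/-- **BG 11.1(b)**. -/
theorem exc_11_1b (hG : IsMinSimpleOddOrder G) (h1403 : H1403 G) (h1404 : H1404 G)
    (h1410 : ∀ (p : ℕ) [Fact p.Prime] (H : Subgroup G), H ≠ ⊤ → PLengthLE p 1 H)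
    {M : Subgroup G} (hM : IsCoatom M) {p : ℕ} [hp : Fact p.Prime] {A A₀ : Subgroup G}
    (hps : p ∉ sigma M) (hAM : A ≤ M) (hA : Cfsg.IsElementaryAbelian p A)
    (hA2 : Nat.card A = p ^ 2) (hA₀A : A₀ ≤ A)
    (hNA₀ : Subgroup.normalizer (A₀ : Set G) ≤ M) :
    ∀ g : G, g ∉ M → A ≤ M.map (MulAut.conj g).toMonoidHom →
      ∀ (q : ℕ) [Fact q.Prime] (Q1 Q2 : Subgroup G), Q1 ≤ sigmaCore M →
      Q2 ≤ (sigmaCore M).map (MulAut.conj g).toMonoidHom →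
      (∃ S : Sylow q G, (S : Subgroup G) = Q1) → (∃ S : Sylow q G, (S : Subgroup G) = Q2) →
      A ≤ Subgroup.normalizer (Q1 : Set G) → A ≤ Subgroup.normalizer (Q2 : Set G) →
      ∀ X : Subgroup G, X ≤ A → Nat.card X = p →
      Q1 ⊓ Subgroup.centralizer (X : Set G) ≠ ⊥ → Q2 ⊓ Subgroup.centralizer (X : Set G) = ⊥ := by
  intro g hg _ q hqF Q1 Q2 hQ1σ hQ2σ hS1 hS2 hAQ1 hAQ2 X hXA hX hC1
  obtain ⟨S1, hS1⟩ := hS1
  obtain ⟨S2, hS2⟩ := hS2
  by_contra hC2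
  have hpp : p.Prime := hp.out
  have hqp : q.Prime := hqF.out
  have hσle := Cfsg.Agent.Lib.Helper67.BG.sigmaCore_le M
  have hQ1t : IsSylowIn q Q1 ⊤ :=
    ⟨le_top, by rw [← hS1, Subgroup.card_top]; exact S1.card_eq_multiplicity⟩
  have hQ2t : IsSylowIn q Q2 ⊤ :=
    ⟨le_top, by rw [← hS2, Subgroup.card_top]; exact S2.card_eq_multiplicity⟩
  have hQ1ne : Q1 ≠ ⊥ := fun h => hC1 (by rw [h, bot_inf_eq])
  have hQ1q : IsPGroup q Q1 := sylIn_isPGroup hQ1t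
  have hqM : q ∈ sigma M := Cfsg.Agent.Lib.Helper67.BG.sigmaCore_isPi M q hqp
    ((Cfsg.Agent.Lib.Helper67.BG.dvd_card_of_isPGroup_ne_bot hQ1q hQ1ne).trans
      (Subgroup.card_dvd_of_le hQ1σ))
  have hpq : p ≠ q := fun h => hps (h ▸ hqM)
  have h1max := mem_maxInv_of_sylIn_top hQ1t hAQ1
  have h2max := mem_maxInv_of_sylIn_top hQ2t hAQ2
  have hAmax : ∀ B : Subgroup G, Cfsg.IsElementaryAbelian p B → A ≤ B → B = A :=
    fun B hB hAB => Cfsg.Agent.Lib.Helper20.BG.s1408_max hG h1403 M hM p hps A hAM hA hA2 B hB hAB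
  have hTH := transHyp_of_max hG (h1410 p) hA hA2 hAmax
  have hqA : ¬ q ∣ Nat.card A := by
    rw [hA2]
    intro h
    exact hpq ((Nat.prime_dvd_prime_iff_eq hqp hpp).mp (hqp.dvd_of_dvd_pow h)).symm
  have hCne : Subgroup.centralizer (X : Set G) ≠ ⊤ := by
    intro h
    have h1 : Subgroup.normalizer (X : Set G) ≠ ⊤ :=
      normalizer_ne_top hG (ne_bot_of_card_prime hX) (ne_top_of_le_coatom hM (hXA.trans hAM))
    exact h1 (top_le_iff.mp (h ▸ centralizer_le_normalizer' X))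
  have hAC : A ≤ Subgroup.centralizer (X : Set G) := by
    intro a ha
    rw [Subgroup.mem_centralizer_iff]
    intro y hy
    exact Cfsg.Agent.Lib.Helper20.BG.ea_comm hA y (hXA hy) a ha
  obtain ⟨k, hk, hQk⟩ := Cfsg.Agent.S1392.result hG A hTH q hqp hqA Q1 Q2 h1max h2max
    (Subgroup.centralizer (X : Set G)) hCne hAC (by rwa [inf_comm]) (by rwa [inf_comm])
  have hkC : k ∈ Subgroup.centralizer (A : Set G) := Subgroup.map_subtype_le _ hk
  have hkM : k ∈ M := hNA₀ (centralizer_le_normalizer' A₀ (centralizer_anti hA₀A hkC))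
  have hQ2M : Q2 ≤ M := by
    rw [hQk]
    calc Q1.map (MulAut.conj k).toMonoidHom ≤ M.map (MulAut.conj k).toMonoidHom :=
          Subgroup.map_mono (hQ1σ.trans hσle)
      _ = M := map_conj_eq_of_mem hkM
  have hRσ : Q2.map (MulAut.conj g⁻¹).toMonoidHom ≤ sigmaCore M := by
    have h0 := Subgroup.map_mono (f := (MulAut.conj g⁻¹).toMonoidHom) hQ2σ
    rwa [Cfsg.Agent.Lib.Helper35.BG.map_conj_mul, inv_mul_cancel, Cfsg.Agent.Lib.Helper35.BG.map_conj_one] at h0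
  have hRt : IsSylowIn q (Q2.map (MulAut.conj g⁻¹).toMonoidHom) ⊤ :=
    ⟨le_top, by rw [card_map_conj]; exact hQ2t.2⟩
  have hRM : Q2.map (MulAut.conj g⁻¹).toMonoidHom ≤ M := hRσ.trans hσle
  have hRsyl : IsSylowIn q (Q2.map (MulAut.conj g⁻¹).toMonoidHom) M := sylIn_mono hRt hRM le_top
  have hR1 : Q2.map (MulAut.conj g⁻¹).toMonoidHom ≠ ⊥ := sylIn_ne_bot hRsyl hqM.2.1
  obtain ⟨hfus, -⟩ := h1404 M hM q hqM _ (sylIn_isPGroup hRsyl) hR1 hRM
  have hmap : (Q2.map (MulAut.conj g⁻¹).toMonoidHom).map (MulAut.conj g).toMonoidHom ≤ M := by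
    rw [Cfsg.Agent.Lib.Helper35.BG.map_conj_mul, mul_inv_cancel, Cfsg.Agent.Lib.Helper35.BG.map_conj_one]; exact hQ2M
  obtain ⟨m, hm, c, hc, hgmc⟩ := hfus g hmap
  have hcM : c ∈ M := normalizer_le_of_sigma hqM hRsyl (centralizer_le_normalizer' _ hc)
  exact hg (hgmc ▸ M.mul_mem hm hcM)

/-- BG 11.1–11.4 packaged as `Helper59.BG.Sec11A`, for every exceptional datum of `G`. -/
theorem sec11A_of (hG : IsMinSimpleOddOrder G) (h1403 : H1403 G) (h1404 : H1404 G)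
    (h1410 : ∀ (p : ℕ) [Fact p.Prime] (H : Subgroup G), H ≠ ⊤ → PLengthLE p 1 H) :
    ∀ (H : Subgroup G), IsCoatom H → ∀ (q : ℕ) [Fact q.Prime] (B B₀ : Subgroup G),
      q ∉ Cfsg.sigma H → B ≤ H → Cfsg.IsElementaryAbelian q B → Nat.card B = q ^ 2 →
      B₀ ≤ B → Nat.card B₀ = q → Subgroup.normalizer (B₀ : Set G) ≤ H →
      Cfsg.Agent.Lib.Helper59.BG.Sec11A H q B B₀ := by
  intro H hH q _ B B₀ hq hBH hBe hB2 hB₀ hB₀c hN
  have hnil := exc_nilpotent hG h1403 h1404 h1410 hH hq hBH hBe hB2 hB₀ hB₀c hN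
  exact ⟨exc_11_1b hG h1403 h1404 h1410 hH hq hBH hBe hB2 hB₀ hN,
    exc_11_2b hG h1403 h1404 h1410 hH hq hBH hBe hB2 hB₀ hN, hnil,
    Cfsg.Agent.Lib.Helper47.BG.sigmaCore_ne_bot hG (h1405_of hG h1403 h1404) H hH,
    exc_uniq hG h1403 h1404 h1410 hH hq hBH hBe hB2 hB₀ hN hnil⟩

/-- **BG 11.5 and 11.6** for an exceptional maximal subgroup, from S1403, S1404, S1410, S1412. -/
theorem exc_abelian (hG : IsMinSimpleOddOrder G) (h1403 : H1403 G) (h1404 : H1404 G)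
    (h1410 : ∀ (p : ℕ) [Fact p.Prime] (H : Subgroup G), H ≠ ⊤ → PLengthLE p 1 H)
    (h1412 : type_of% (@Cfsg.CfsgFrozen.S1412 G _ _ hG))
    {M : Subgroup G} (hM : IsCoatom M) {p : ℕ} [hp : Fact p.Prime] {A A₀ : Subgroup G}
    (hps : p ∉ sigma M) (hAM : A ≤ M) (hA : Cfsg.IsElementaryAbelian p A)
    (hA2 : Nat.card A = p ^ 2) (hA₀A : A₀ ≤ A) (hA₀ : Nat.card A₀ = p)
    (hNA₀ : Subgroup.normalizer (A₀ : Set G) ≤ M) :
    (∀ P : Sylow p M, IsMulCommutative (P : Subgroup M) ∧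
        (A ≤ (P : Subgroup M).map M.subtype →
          (∀ x ∈ (P : Subgroup M).map M.subtype, x ^ p = 1 ↔ x ∈ A) ∧
          ¬ Subgroup.normalizer ((((P : Subgroup M).map M.subtype : Subgroup G)) : Set G) ≤ M)) ∧
      sigmaCore M ⊓ Subgroup.centralizer (A : Set G) = ⊥ ∧
      ∃ A₁ : Subgroup G, A₁ ≤ A ∧ Nat.card A₁ = p ∧
        sigmaCore M ⊓ Subgroup.centralizer (A₁ : Set G) = ⊥ := by
  have h1405 := h1405_of hG h1403 h1404
  have hr2 : Cfsg.PRankLE p 2 M :=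
    (Cfsg.Agent.Lib.Helper20.BG.s1409_core hG h1403 M hM p hps A₀ hA₀ hNA₀).1.1
  have hHall : IsPiHallOf (sigma M) (sigmaCore M) M :=
    (Cfsg.Agent.Lib.Helper66.BG.s1350_core hG h1404 h1405 M hM).1
  exact Cfsg.Agent.Lib.Helper76.BG.sec11_abelian hG h1412 M p hps A A₀ hAM hA hA2 hA₀A hA₀ hNA₀
    hr2 hHall (exc_11_1b hG h1403 h1404 h1410 hM hps hAM hA hA2 hA₀A hNA₀)
    (exc_11_2b hG h1403 h1404 h1410 hM hps hAM hA hA2 hA₀A hNA₀)
    (exc_nilpotent hG h1403 h1404 h1410 hM hps hAM hA hA2 hA₀A hA₀ hNA₀)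
    (Cfsg.Agent.Lib.Helper47.BG.sigmaCore_ne_bot hG h1405 M hM)

end Cfsg.Agent.Lib.Helper29.BG
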