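import Mathlib
import Cfsg.Agent.Lib.Helper70.BG.S1421Defs
import Cfsg.Agent.Lib.Helper29.BG.S1421AsmA
import Cfsg.Agent.Lib.Helper35.BG.Basic
import Cfsg.Agent.Lib.Helper35.BG.Hall
import Cfsg.Agent.Lib.Helper35.BG.Compl
import Cfsg.Agent.Lib.Helper24.BG.S1431Util
import Cfsg.Agent.Lib.Helper98.BG.T5

/-!
# S1421 project (helper70), package AsmB

Induction over the primes of `T`: replace `F ≥ P` by `D · K`, `K` a complement of `P` in `F`.
-/

set_option autoImplicit false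

namespace Cfsg.Agent.Lib.Helper29.BG

open Cfsg Subgroup
open Cfsg.Agent.Lib.Helper46 (IsSylowIn)

universe u

section Tools

variable {G : Type u} [Group G]

theorem pow_exponent_eq_one_of_mem {H : Subgroup G} {x : G} (hx : x ∈ H) :
    x ^ Monoid.exponent H = 1 := by
  have := Monoid.pow_exponent_eq_one (⟨x, hx⟩ : H)
  simpa using congrArg Subtype.val this

theorem exponent_dvd_of_le29 {H K : Subgroup G} (h : H ≤ K) :
    Monoid.exponent H ∣ Monoid.exponent K := by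
  apply Monoid.exponent_dvd_of_forall_pow_eq_one
  intro g
  apply Subtype.ext
  simpa using pow_exponent_eq_one_of_mem (h g.2)

theorem exponent_dvd_of_forall_mem {H : Subgroup G} {n : ℕ} (h : ∀ x ∈ H, x ^ n = 1) :
    Monoid.exponent H ∣ n := by
  apply Monoid.exponent_dvd_of_forall_pow_eq_one
  intro g
  apply Subtype.ext
  simpa using h g.1 g.2

/-- Powers of a product modulo a normalized subgroup. -/
theorem exists_pow_mul_eq {N : Subgroup G} {x k : G} (hx : x ∈ N)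
    (hk : k ∈ normalizer (N : Set G)) (m : ℕ) : ∃ x' ∈ N, (x * k) ^ m = x' * k ^ m := by
  induction m with
  | zero => exact ⟨1, N.one_mem, by simp⟩
  | succ m ih =>
    obtain ⟨x', hx', h⟩ := ih
    have hkm : k ^ m ∈ normalizer (N : Set G) := Subgroup.pow_mem _ hk m
    refine ⟨x' * (k ^ m * x * (k ^ m)⁻¹), N.mul_mem hx'
      ((Subgroup.mem_normalizer_iff.mp hkm x).mp hx), ?_⟩
    rw [pow_succ, h, pow_succ]; group

/-- It suffices to bound the orders of the prime-power elements. -/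
theorem pow_eq_one_of_prime_parts [Finite G] {F : Subgroup G} {n : ℕ}
    (h : ∀ q : ℕ, q.Prime → ∀ y ∈ F, (∃ k : ℕ, y ^ q ^ k = 1) → y ^ n = 1) :
    ∀ g ∈ F, g ^ n = 1 := by
  intro g hg
  rw [← orderOf_dvd_iff_pow_eq_one, Nat.dvd_iff_prime_pow_dvd_dvd]
  intro q j hq hqj
  have ho : orderOf g ≠ 0 := (orderOf_pos g).ne'
  have hd : orderOf g / q ^ j ∣ orderOf g := Nat.div_dvd_of_dvd hqj
  have hne : orderOf g / q ^ j ≠ 0 := by
    intro h0
    rcases (Nat.div_eq_zero_iff).mp h0 with h1 | h1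
    · exact (pow_ne_zero j hq.ne_zero : q ^ j ≠ 0) h1
    · exact absurd (Nat.le_of_dvd (Nat.pos_of_ne_zero ho) hqj) (not_le.mpr h1)
  have hord : orderOf (g ^ (orderOf g / q ^ j)) = q ^ j := by
    rw [orderOf_pow_of_dvd hne hd, Nat.div_div_self hqj ho]
  have hy := h q hq (g ^ (orderOf g / q ^ j)) (F.pow_mem hg _)
    ⟨j, by have h5 := pow_orderOf_eq_one (g ^ (orderOf g / q ^ j)); rwa [hord] at h5⟩
  have h6 := orderOf_dvd_of_pow_eq_one hy
  rwa [hord] at h6

/-- One step of the induction of package AsmB. -/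
theorem asmB_step [Finite G] {E F P D : Subgroup G} {p : ℕ} [Fact p.Prime]
    (hFE : F ≤ E) (hPE : P ≤ E) (hPp : IsPGroup p P)
    (hPall : ∀ e ∈ E, (∃ k : ℕ, e ^ p ^ k = 1) → e ∈ P)
    (hPF : P ≤ F) (hDP : D ≤ P) (hED : E ≤ normalizer (D : Set G))
    (hexp : Monoid.exponent D = Monoid.exponent P) :
    ∃ F' : Subgroup G, F' ≤ F ∧ Monoid.exponent F' = Monoid.exponent F ∧
      (∀ e ∈ F', (∃ k : ℕ, e ^ p ^ k = 1) → e ∈ D) ∧
      (∀ q : ℕ, q.Prime → q ≠ p → ∀ Q : Subgroup G, Q ≤ F → IsPGroup q Q →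
        E ≤ normalizer (Q : Set G) → Q ≤ F') := by
  have hp : p.Prime := Fact.out
  have hEP : E ≤ normalizer (P : Set G) := le_normalizer_of_all_pelts hPE hPp hPall
  -- `P` is a Sylow `p`-subgroup of `F`
  have hPsyl : IsSylowIn p P F := by
    obtain ⟨R₁, hR₁, hPR₁⟩ := Cfsg.Agent.Lib.Helper35.BG.exists_isSylowIn_ge hPp hPF
    have hR₁P : R₁ ≤ P := fun x hx =>
      hPall x (hFE (hR₁.1 hx)) (pelt_of_mem (Cfsg.Agent.Lib.Helper35.BG.sylIn_isPGroup hR₁) hx)
    have : R₁ = P := le_antisymm hR₁P hPR₁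
    rw [← this]; exact hR₁
  have hcop := Cfsg.Agent.Lib.Helper24.BG31.sylIn_coprime_relIndex hPsyl
  obtain ⟨K, hK⟩ := Cfsg.Agent.Lib.Helper35.BG.exists_isComplIn_of_coprime hPF (hFE.trans hEP) hcop
  obtain ⟨-, hKF, hPK, hFPK⟩ := hK
  have hKcard : Nat.card K = P.relIndex F :=
    (Cfsg.Agent.Lib.Helper35.BG.relIndex_left_of_isComplIn ⟨hPF, hKF, hPK, hFPK⟩).symm
  have hKp : (Nat.card K).Coprime p := by
    rw [hKcard, Nat.coprime_comm, Nat.Prime.coprime_iff_not_dvd hp]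
    exact Cfsg.Agent.Lib.Helper24.BG31.sylIn_not_dvd_relIndex hPsyl
  have hKD : K ≤ normalizer (D : Set G) := hKF.trans (hFE.trans hED)
  have hKP : K ≤ normalizer (P : Set G) := hKF.trans (hFE.trans hEP)
  have hKpow : ∀ k ∈ K, k ^ Nat.card K = 1 := by
    intro k hk
    exact orderOf_dvd_iff_pow_eq_one.mp (Subgroup.orderOf_dvd_natCard K hk)
  refine ⟨D ⊔ K, sup_le (hDP.trans hPF) hKF, ?_, ?_, ?_⟩
  · -- exponent
    apply Nat.dvd_antisymm (exponent_dvd_of_le29 (sup_le (hDP.trans hPF) hKF))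
    apply exponent_dvd_of_forall_mem
    apply pow_eq_one_of_prime_parts
    intro q hq y hy hyq
    by_cases hqp : q = p
    · subst hqp
      have hyP : y ∈ P := hPall y (hFE hy) hyq
      have h1 : y ^ Monoid.exponent P = 1 := pow_exponent_eq_one_of_mem hyP
      have h2 : Monoid.exponent P ∣ Monoid.exponent ↥(D ⊔ K) := by
        rw [← hexp]; exact exponent_dvd_of_le29 le_sup_left
      obtain ⟨c, hc⟩ := h2
      rw [hc, pow_mul, h1, one_pow]
    · obtain ⟨x, hx, k, hk, rfl⟩ := hFPK y hy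
      obtain ⟨x', hx', h3⟩ := exists_pow_mul_eq hx (hKP hk) (Monoid.exponent ↥(D ⊔ K))
      have h4 : k ^ Monoid.exponent ↥(D ⊔ K) = 1 :=
        pow_exponent_eq_one_of_mem (le_sup_right (a := D) hk)
      rw [h4, mul_one] at h3
      apply eq_one_of_pelt_of_qelt hp hq (Ne.symm hqp)
      · rw [h3]; exact pelt_of_mem hPp hx'
      · obtain ⟨j, hj⟩ := hyq
        exact ⟨j, by rw [← pow_mul, mul_comm, pow_mul, hj, one_pow]⟩
  · -- `p`-elements of `D ⊔ K` lie in `D`
    intro e he hek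
    obtain ⟨d, hd, k, hk, rfl⟩ := Cfsg.Agent.Lib.Helper98.BG.exists_mul_of_mem_sup_norm hKD he
    obtain ⟨j, hj⟩ := hek
    obtain ⟨d', hd', h3⟩ := exists_pow_mul_eq hd (hKD hk) (p ^ j)
    rw [hj] at h3
    have h4 : k ^ p ^ j = d'⁻¹ := by
      have : d'⁻¹ * 1 = d'⁻¹ * (d' * k ^ p ^ j) := by rw [h3]
      rw [mul_one, inv_mul_cancel_left] at this
      exact this.symm
    have h5 : k ^ p ^ j ∈ P ⊓ K :=
      ⟨by rw [h4]; exact P.inv_mem (hDP hd'), K.pow_mem hk _⟩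
    rw [hPK, Subgroup.mem_bot] at h5
    have hk1 : k = 1 := eq_one_of_pelt_of_coprime hKp ⟨j, h5⟩ (hKpow k hk)
    rw [hk1, mul_one]; exact hd
  · -- normal `q`-subgroups of `F` (`q ≠ p`) lie in `K`
    intro q hq hqp Q hQF hQq hEQ e he
    obtain ⟨x, hx, k, hk, hxk⟩ := hFPK e (hQF he)
    have heE : e ∈ E := hFE (hQF he)
    have hxE : x ∈ E := hPE hx
    -- `e` commutes with `x`
    have c1 : e * x * e⁻¹ * x⁻¹ ∈ P :=
      P.mul_mem ((Subgroup.mem_normalizer_iff.mp (hEP heE) x).mp hx) (P.inv_mem hx)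
    have c2 : e * x * e⁻¹ * x⁻¹ ∈ Q := by
      have h3 : x * e⁻¹ * x⁻¹ ∈ Q :=
        (Subgroup.mem_normalizer_iff.mp (hEQ hxE) e⁻¹).mp (Q.inv_mem he)
      have e1 : e * x * e⁻¹ * x⁻¹ = e * (x * e⁻¹ * x⁻¹) := by group
      rw [e1]; exact Q.mul_mem he h3
    have c3 : e * x * e⁻¹ * x⁻¹ = 1 :=
      eq_one_of_pelt_of_qelt hp hq (Ne.symm hqp) (pelt_of_mem hPp c1) (pelt_of_mem hQq c2)
    have hcomm : e * x = x * e := by
      calc e * x = (e * x * e⁻¹ * x⁻¹) * (x * e) := by group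
        _ = x * e := by rw [c3, one_mul]
    have hk' : k = x⁻¹ * e := by rw [hxk]; group
    have hek : Commute e k⁻¹ := by
      have h6 : e * k = k * e := by
        rw [hk']
        calc e * (x⁻¹ * e) = x⁻¹ * (x * e) * (x⁻¹ * e) := by group
          _ = x⁻¹ * (e * x) * (x⁻¹ * e) := by rw [hcomm]
          _ = x⁻¹ * e * e := by group
      exact (show Commute e k from h6).inv_right
    have hx' : x = e * k⁻¹ := by rw [hxk]; group
    obtain ⟨j, hj⟩ := pelt_of_mem hQq he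
    have hxm : x ^ (q ^ j * Nat.card K) = 1 := by
      rw [hx', hek.mul_pow, pow_mul, hj, one_pow, one_mul, inv_pow, mul_comm, pow_mul, hKpow k hk,
        one_pow, inv_one]
    have hcop2 : (q ^ j * Nat.card K).Coprime p :=
      Nat.Coprime.mul_left (Nat.Coprime.pow_left j ((Nat.coprime_primes hq hp).mpr hqp)) hKp
    have hx1 : x = 1 := eq_one_of_pelt_of_coprime hcop2 (pelt_of_mem hPp hx) hxm
    rw [hxk, hx1, one_mul]
    exact le_sup_right (a := D) hk

end Tools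

/-- **Package AsmB.** -/
theorem lemAsmB : Cfsg.Agent.Lib.Helper70.BG21.LemAsmB.{u} := by
  intro G _ _ E R T hpow h1 h2
  classical
  have key : ∀ s : Finset ℕ, (∀ q ∈ s, q ∈ T ∧ q.Prime ∧ q ∣ Nat.card E) →
      ∃ F : Subgroup G, F ≤ E ∧ Monoid.exponent F = Monoid.exponent E ∧
        (∀ q ∈ s, ∀ e ∈ F, (∃ k : ℕ, e ^ q ^ k = 1) → e ≠ 1 → R e) ∧
        (∀ q, q ∈ T → q.Prime → q ∣ Nat.card E → q ∉ s →
          ∀ e ∈ E, (∃ k : ℕ, e ^ q ^ k = 1) → e ∈ F) := by
    intro s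
    induction s using Finset.induction_on with
    | empty =>
      intro _
      exact ⟨E, le_rfl, rfl, by simp, fun q _ _ _ _ e he _ => he⟩
    | insert p s hps ih =>
      intro hs
      obtain ⟨F, hFE, hFexp, hF1, hF2⟩ := ih (fun q hq => hs q (Finset.mem_insert_of_mem hq))
      obtain ⟨hpT, hp, hpE⟩ := hs p (Finset.mem_insert_self p s)
      have : Fact p.Prime := ⟨hp⟩
      obtain ⟨P, D, hPE, hPp, hPc, hPall, hDP, hED, hDexp, hDR⟩ := h2 p hpT hp hpE
      have hPF : P ≤ F := fun x hx => hF2 p hpT hp hpE hps x (hPE hx) (pelt_of_mem hPp hx)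
      obtain ⟨F', hF'F, hF'exp, hF'p, hF'q⟩ :=
        asmB_step hFE hPE hPp hPall hPF hDP hED hDexp
      refine ⟨F', hF'F.trans hFE, hF'exp.trans hFexp, ?_, ?_⟩
      · intro q hq e he hek hne
        rcases Finset.mem_insert.mp hq with rfl | hq
        · exact hDR e (hF'p e he hek) hne
        · exact hF1 q hq e (hF'F he) hek hne
      · intro q hqT hq hqE hqs e he hek
        have hqp : q ≠ p := fun h => hqs (h ▸ Finset.mem_insert_self p s)
        have hqs' : q ∉ s := fun h => hqs (Finset.mem_insert_of_mem h)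
        obtain ⟨Q, D', hQE, hQq, -, hQall, -⟩ := h2 q hqT hq hqE
        have hQF : Q ≤ F := fun x hx => hF2 q hqT hq hqE hqs' x (hQE hx) (pelt_of_mem hQq hx)
        exact hF'q q hq hqp Q hQF hQq (le_normalizer_of_all_pelts hQE hQq hQall) (hQall e he hek)
  obtain ⟨F, hFE, hFexp, hF1, -⟩ := key ((Nat.card E).primeFactors.filter (· ∈ T)) (by
    intro q hq
    rw [Finset.mem_filter] at hq
    exact ⟨hq.2, Nat.prime_of_mem_primeFactors hq.1, Nat.dvd_of_mem_primeFactors hq.1⟩)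
  refine ⟨F, hFE, hFexp, ?_⟩
  intro e he hne
  by_contra hR
  have hoe : orderOf e ≠ 1 := fun h => hne (orderOf_eq_one_iff.mp h)
  set q := (orderOf e).minFac with hqdef
  have hq : q.Prime := Nat.minFac_prime hoe
  have hqd : q ∣ orderOf e := Nat.minFac_dvd _
  have hqT : q ∈ T := h1 e (hFE he) hne hR q hq hqd
  have hqE : q ∣ Nat.card E := hqd.trans (Subgroup.orderOf_dvd_natCard E (hFE he))
  have ho0 : orderOf e ≠ 0 := (orderOf_pos e).ne'
  have hd : orderOf e / q ∣ orderOf e := Nat.div_dvd_of_dvd hqd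
  have hne0 : orderOf e / q ≠ 0 := by
    intro h0
    rcases (Nat.div_eq_zero_iff).mp h0 with h3 | h3
    · exact hq.ne_zero h3
    · exact absurd (Nat.le_of_dvd (Nat.pos_of_ne_zero ho0) hqd) (not_le.mpr h3)
  have hord : orderOf (e ^ (orderOf e / q)) = q := by
    rw [orderOf_pow_of_dvd hne0 hd, Nat.div_div_self hqd ho0]
  have hne' : e ^ (orderOf e / q) ≠ 1 := by
    intro h
    rw [h, orderOf_one] at hord
    exact hq.one_lt.ne hord
  have hsing : ¬ R (e ^ (orderOf e / q)) := hpow e (hFE he) _ hR hne'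
  apply hsing
  apply hF1 q (by
    rw [Finset.mem_filter]
    exact ⟨Nat.mem_primeFactors.mpr ⟨hq, hqE, Nat.card_pos.ne'⟩, hqT⟩) _ (F.pow_mem he _) _ hne'
  refine ⟨1, ?_⟩
  rw [pow_one]
  have h5 := pow_orderOf_eq_one (e ^ (orderOf e / q))
  rwa [hord] at h5

end Cfsg.Agent.Lib.Helper29.BG
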